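import Cfsg.Agent.McLModel.RankThree.Defs
import Cfsg.Agent.McLModel.Checks

/-!
The products of the distant vectors with the neighbours of the first.
-/

set_option autoImplicit false
set_option maxRecDepth 100000
set_option Elab.async false

namespace Cfsg.Lib.McLModel.RankThree

open Cfsg.Lib.PermCert Cfsg.Lib.CosetCert Cfsg.Lib.Leech.Stab Cfsg.Lib.McLModel.PtStab

theorem dots_far : ((List.range 162).all fun j => (List.range 112).all fun i =>
    (dotK (key (nbPt j)) (key (subPt i)) == 8) == inS j i) = true := by decide +kernel

end Cfsg.Lib.McLModel.RankThree
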