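import Cfsg.Agent.McLModel.RankThree.Defs
import Cfsg.Agent.McLModel.Checks

/-!
The products of the neighbours of the first vector among themselves.
-/

set_option autoImplicit false
set_option maxRecDepth 100000
set_option Elab.async false

namespace Cfsg.Lib.McLModel.RankThree

open Cfsg.Lib.PermCert Cfsg.Lib.CosetCert Cfsg.Lib.Leech.Stab Cfsg.Lib.McLModel.PtStab

theorem dots_near : ((List.range 112).all fun i => (List.range 112).all fun i' =>
    (dotK (key (subPt i)) (key (subPt i')) == 8) == adjB i i') = true := by decide +kernel

end Cfsg.Lib.McLModel.RankThree
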