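import Cfsg.Agent.McLModel.RankThree.Defs

/-!
The search tree for sets of two points on every line.
-/

set_option autoImplicit false
set_option maxRecDepth 100000
set_option Elab.async false

namespace Cfsg.Lib.McLModel.RankThree

open Cfsg.Lib.PermCert Cfsg.Lib.CosetCert Cfsg.Lib.McLModel.PtStab

theorem tree_ok : runT 160 0 0 0 = some 36959 := by decide +kernel

end Cfsg.Lib.McLModel.RankThree
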