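import Cfsg.Agent.McLModel.RankThree.Defs
import Cfsg.Agent.McLModel.Checks

/-!
Kernel checks for the graph on 275 points seen from a point.
-/

set_option autoImplicit false
set_option maxRecDepth 100000
set_option Elab.async false

namespace Cfsg.Lib.McLModel.RankThree

open Cfsg.Lib.PermCert Cfsg.Lib.CosetCert Cfsg.Lib.Leech.Stab Cfsg.Lib.McLModel.PtStab

theorem q_aut : qTabs.all autOK = true := by decide +kernel

theorem sig_aut : sigTabs.all autOK = true ∧ sigTabs.length = 4 := by decide +kernel

theorem basis_ok : ((List.range 4).all fun b => wordOK (basisWords.getD b []) (basisTabs.getD b (0, 0))) = true := by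
  decide +kernel

theorem fix_ok : ((List.range 4).all fun b => wordOK (fixWords.getD b []) (fixTabs.getD b (0, 0)) &&
    (ap (fixTabs.getD b (0, 0)).1 0 == 0)) = true := by decide +kernel

theorem ez_ok : ezExps.all ezOK = true ∧
    ((List.range 112).all fun z => (z == 0) || adjB 0 z || ezExps.any fun e => e.1 == z) = true := by decide +kernel

theorem prod_ok : ((List.range 2).all fun l => (List.range 4).all fun t =>
    autOK ((prodTabs.getD l []).getD t (0, 0)) &&
      elOK ((prodTabs.getD l []).getD t (0, 0)) ((prodPts.getD l []).getD t 0) &&
      Nat.blt ((prodPts.getD l []).getD t 0) 112) = true ∧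
    ((List.range 2).all fun l => (prodTabs.getD l []).length == 4 && (List.range 112).all fun x =>
      evalWord (prodTabs.getD l []) x == ap (qTabs.getD l (0, 0)).1 x) = true := by decide +kernel

theorem reach_pts : reachOK (fun g p => ap (qTabs.getD g (0, 0)).1 p) 2 [0] reachPts = true ∧
    ((List.range 112).all fun x => (x == 0) || reachPts.any fun e => e.1 == x) = true := by decide +kernel

theorem reach_near : reachOK (fun g p => ap (fixTabs.getD g (0, 0)).1 p) 4 [y0Nat] reachNear = true ∧
    ((List.range 112).all fun x => !(adjB 0 x) || (x == y0Nat) || reachNear.any fun e => e.1 == x) = true ∧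
    adjB 0 y0Nat = true ∧ y0Nat < 112 := by decide +kernel

theorem reach_far : reachOK (fun g p => ap (fixTabs.getD g (0, 0)).1 p) 4 [z0Nat] reachFar = true ∧
    ((List.range 112).all fun x => (x == 0) || adjB 0 x || (x == z0Nat) || reachFar.any fun e => e.1 == x) = true ∧
    adjB 0 z0Nat = false ∧ z0Nat ≠ 0 ∧ z0Nat < 112 := by decide +kernel

theorem rows_step : ((List.range 2).all fun l => reachRows.all fun e =>
    !(e.2.2 == l) || (Nat.blt e.1 162 && Nat.blt e.2.1 162 && (List.range 112).all fun i =>
      inS e.1 (ap (qTabs.getD l (0, 0)).1 i) == inS e.2.1 i)) = true := by decide +kernel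

theorem reach_rows_order : (((List.range 161).all fun k =>
    let e := reachRows.getD k (0, 0, 0)
    Nat.blt e.2.2 2 && ((e.2.1 == 0) || (List.range k).any fun k' => (reachRows.getD k' (0, 0, 0)).1 == e.2.1)) &&
    (List.range 162).all fun j => (j == 0) || reachRows.any fun e => e.1 == j) = true ∧ reachRows.length = 161 := by
  decide +kernel

theorem rows_distinct : ((List.range 162).all fun i => (List.range i).all fun j =>
    rowMasks.getD i 0 != rowMasks.getD j 0) = true ∧ rowMasks.all (fun m => Nat.blt m (2 ^ 112)) = true := by decide +kernel

theorem adj_bound : adjMasks.all (fun m => Nat.blt m (2 ^ 112)) = true := by decide +kernel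

theorem near_unique : ((List.range 112).all fun m => !(adjB 0 m && adjB z0Nat m) ||
    (List.range 112).all fun m' => !(adjB 0 m' && adjB z0Nat m') || !(adjB m m')) = true := by decide +kernel

theorem near_exists : ((List.range 112).all fun y => !(adjB 0 y) || (List.range 112).any fun m =>
    adjB 0 m && adjB z0Nat m && ((m == y) || adjB m y)) = true := by decide +kernel

theorem tri_ok : ((List.range 112).all fun y => !(adjB 0 y) || (List.range 112).all fun m =>
    !(adjB 0 m && adjB y m) || (List.range 112).any fun w => triOK y m w) = true := by decide +kernel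

theorem traces : ((List.range 112).all fun z => (z == 0) || adjB 0 z || (List.range z).all fun z' =>
    (z' == 0) || adjB 0 z' || (adjMasks.getD 0 0 &&& adjMasks.getD z 0) != (adjMasks.getD 0 0 &&& adjMasks.getD z' 0)) = true := by
  decide +kernel

theorem lines_ok : ((List.range 280).all fun l => (List.range 4).all fun s => Nat.blt (linePt l s) 112 &&
    (List.range 4).all fun t => (s == t) || adjB (linePt l s) (linePt l t)) = true := by decide +kernel

theorem row0_counts : ((List.range 162).all fun j => (j == 0) ||
    let c := ((List.range 112).filter fun i => inS 0 i && inS j i).length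
    (c == 20) || (c == 32)) = true ∧
    ((List.range 162).filter fun j => ((List.range 112).filter fun i => inS 0 i && inS j i).length == 20).length = 56 := by
  decide +kernel

theorem cls_ok : ((List.range 275).all fun x =>
      ((cls x == 0) && (x == 0)) ||
      (Nat.blt 0 (cls x) && Nat.blt (cls x) 113 && (subPt (cls x - 1) == x)) ||
      (Nat.blt 112 (cls x) && Nat.blt (cls x) 275 && (nbPt (cls x - 113) == x))) = true ∧
    (cls 0 == 0 && ((List.range 112).all fun i => cls (subPt i) == 1 + i) &&
      (List.range 162).all fun j => Nat.blt (nbPt j) 275 && (cls (nbPt j) == 113 + j)) = true := by decide +kernel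

theorem dots_base : ((List.range 112).all fun i => dotK (key 0) (key (subPt i)) == 8) = true ∧
    ((List.range 162).all fun j => dotK (key 0) (key (nbPt j)) != 8) = true ∧ dotK (key 0) (key 0) ≠ 8 := by
  decide +kernel

theorem dots_row0 : ((List.range 162).all fun j => (dotK (key (nbPt 0)) (key (nbPt j)) == 8) ==
    (((List.range 112).filter fun i => inS 0 i && inS j i).length == 20)) = true := by decide +kernel

end Cfsg.Lib.McLModel.RankThree
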