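import Cfsg.Agent.McLModel.RankThree.Data
import Cfsg.Agent.McLModel.PtStabChecks

/-!
The Boolean tests for the graph on 275 points seen from a point.
-/

set_option autoImplicit false

namespace Cfsg.Lib.McLModel.RankThree

open Cfsg.Lib.PermCert Cfsg.Lib.CosetCert Cfsg.Lib.McLModel.PtStab

/-- Adjacency among the 112 points. -/
def adjB (i j : ℕ) : Bool := (adjMasks.getD i 0).testBit j

/-- Adjacency between a distant point and one of the 112. -/
def inS (j i : ℕ) : Bool := (rowMasks.getD j 0).testBit i

/-- The index of a distant point. -/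
def nbPt (j : ℕ) : ℕ := ap nbBig j

/-- The position of one of the 275 points. -/
def cls (x : ℕ) : ℕ := ap classBig x

/-- A point of a line. -/
def linePt (l t : ℕ) : ℕ := ap linesBig (4 * l + t)

/-- One of four automorphisms. -/
def sigTab (k : ℕ) : PP := sigTabs.getD k (0, 0)

/-- The product of a word on 112 points. -/
def evalQ (w : List ℕ) (x : ℕ) : ℕ := evalWord (w.map fun l => qTabs.getD l (0, 0)) x

/-- Every entry is obtained from an earlier one. -/
def reachOK (img : ℕ → ℕ → ℕ) (m : ℕ) : List ℕ → List (ℕ × ℕ × ℕ) → Bool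
  | _, [] => true
  | seen, (c, p, g) :: r => seen.contains p && Nat.blt g m && (img g p == c) && reachOK img m (c :: seen) r

theorem reach_sound {img : ℕ → ℕ → ℕ} {m : ℕ} (P : ℕ → Prop) (hstep : ∀ g < m, ∀ p, P p → P (img g p)) :
    ∀ (st : List (ℕ × ℕ × ℕ)) (seen : List ℕ), (∀ x ∈ seen, P x) → reachOK img m seen st = true →
      ∀ e ∈ st, P e.1 := by
  intro st
  induction st with
  | nil => simp
  | cons e r ih =>
    obtain ⟨c, p, g⟩ := e
    intro seen hs h
    simp only [reachOK, Bool.and_eq_true, List.contains_iff_mem, beq_iff_eq] at h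
    obtain ⟨⟨⟨hp, hg⟩, hc⟩, hr⟩ := h
    have hPc : P c := hc ▸ hstep g (Nat.le_of_ble_eq_true hg) p (hs p hp)
    intro e he
    rcases List.mem_cons.1 he with rfl | he
    · exact hPc
    · exact ih (c :: seen) (fun x hx => (List.mem_cons.1 hx).elim (fun e => e ▸ hPc) (hs x)) hr e he

/-- A table preserves adjacency. -/
def autOK (g : PP) : Bool :=
  valid 112 g && (List.range 112).all fun i => (List.range 112).all fun j => adjB (ap g.1 i) (ap g.1 j) == adjB i j

/-- A table is an elation at a point. -/
def elOK (g : PP) (x : ℕ) : Bool :=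
  (ap g.1 x == x) && (List.range 112).all fun y =>
    !(adjB x y) || (((ap g.1 y == y) || adjB y (ap g.1 y)) && (ap g.1 (ap g.1 (ap g.1 y)) == y))

/-- The word of an elation to a distant point. -/
def ezWord (ex : List ℕ) : List PP :=
  List.replicate (ex.getD 0 0) (basisTabs.getD 0 (0, 0)) ++ List.replicate (ex.getD 1 0) (basisTabs.getD 1 (0, 0)) ++
    List.replicate (ex.getD 2 0) (basisTabs.getD 2 (0, 0)) ++ List.replicate (ex.getD 3 0) (basisTabs.getD 3 (0, 0))

/-- The word is an elation at the first point taking the base distant point to the given one. -/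
def ezOK (e : ℕ × List ℕ) : Bool :=
  (evalWord (ezWord e.2) z0Nat == e.1) && (evalWord (ezWord e.2) 0 == 0) && (List.range 112).all fun y =>
    !(adjB 0 y) || (((evalWord (ezWord e.2) y == y) || adjB y (evalWord (ezWord e.2) y)) &&
      (evalWord (ezWord e.2) (evalWord (ezWord e.2) (evalWord (ezWord e.2) y)) == y))

/-- The table of a word. -/
def wordOK (w : List ℕ) (g : PP) : Bool :=
  (w.all fun l => Nat.blt l 4) && valid 112 g && (List.range 112).all fun x => evalQ w x == ap g.1 x

/-- The third point of the line through the first point and two others. -/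
def triOK (y m w : ℕ) : Bool :=
  adjB 0 w && adjB y w && adjB m w && (List.range 112).all fun z =>
    !(adjB 0 z) || ((!(adjB y z) || (z == m) || (z == w)) && (!(adjB m z) || (z == y) || (z == w)) &&
      (!(adjB w z) || (z == y) || (z == m)))

/-- Four values summing to two. -/
def two4 (h : ℕ → Bool) (l : ℕ) : Prop :=
  (h (linePt l 0)).toNat + (h (linePt l 1)).toNat + (h (linePt l 2)).toNat + (h (linePt l 3)).toNat = 2

/-- The number of marked points of a line. -/
def cntL (T l : ℕ) : ℕ :=
  (T.testBit (linePt l 0)).toNat + (T.testBit (linePt l 1)).toNat + (T.testBit (linePt l 2)).toNat +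
    (T.testBit (linePt l 3)).toNat

/-- Mark a point unless it is marked the other way. -/
def put (U T p : ℕ) : ℕ := bif U.testBit p then T else T ||| (1 <<< p)

/-- Mark the points of a line not marked the other way. -/
def setL (U T l : ℕ) : ℕ := put U (put U (put U (put U T (linePt l 0)) (linePt l 1)) (linePt l 2)) (linePt l 3)

/-- A token of the search tree. -/
def tok (pos : ℕ) : ℕ := ap (treeChunks.getD (pos / 2000) 0) (pos % 2000)

/-- The complete marking is an image of a row. -/
def leafOK (T F v : ℕ) : Bool :=
  (T ||| F == 2 ^ 112 - 1) && Nat.blt v 648 &&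
    (List.range 112).all fun i => T.testBit (ap (sigTab (v / 162)).1 i) == inS (v % 162) i

/-- Follow the search tree. -/
def runT : ℕ → ℕ → ℕ → ℕ → Option ℕ
  | 0, _, _, _ => none
  | f + 1, T, F, pos =>
    let t := tok pos
    if t % 4 = 0 then (if leafOK T F (t / 4) then some (pos + 1) else none)
    else if 280 ≤ t / 4 ∧ t % 4 ≠ 3 then none
    else if t % 4 = 1 then (if 3 ≤ cntL T (t / 4) ∨ 3 ≤ cntL F (t / 4) then some (pos + 1) else none)
    else if t % 4 = 2 then
      if cntL T (t / 4) = 2 then runT f T (setL T F (t / 4)) (pos + 1)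
      else if cntL F (t / 4) = 2 then runT f (setL F T (t / 4)) F (pos + 1)
      else none
    else match runT f (T ||| (1 <<< (t / 4))) F (pos + 1) with
      | some q => runT f T (F ||| (1 <<< (t / 4))) q
      | none => none

end Cfsg.Lib.McLModel.RankThree
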