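import Mathlib.Combinatorics.SimpleGraph.StronglyRegular
import Mathlib.Combinatorics.SimpleGraph.Maps
import Mathlib.GroupTheory.GroupAction.Quotient
import Mathlib.Tactic

/-!
A transitive group of degree 275 with suborbits of sizes 112 and 162 preserves a strongly regular graph with
parameters (275, 112, 30, 56); every point outside a clique of five is joined to exactly two of its points, unless
it is joined to all.
-/

set_option autoImplicit false

namespace Cfsg.Lib.McLModel.RankThree

open MulAction Finset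

universe u

variable {Ω : Type u} [Fintype Ω] [DecidableEq Ω]

/-- A point stabiliser acts on the others with orbits of sizes 112 and 162. -/
structure Setup (G : Subgroup (Equiv.Perm Ω)) (a b c : Ω) : Prop where
  card : Fintype.card Ω = 275
  trans : IsPretransitive G Ω
  hb : (orbit (stabilizer G a) b).ncard = 112
  hc : (orbit (stabilizer G a) c).ncard = 162

variable {G : Subgroup (Equiv.Perm Ω)} {a b c : Ω}

theorem Setup.orbit_self (_h : Setup G a b c) : orbit (stabilizer G a) a = {a} := by
  ext x
  simp only [mem_orbit_iff, Set.mem_singleton_iff]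
  exact ⟨fun ⟨g, hg⟩ => by rw [← hg]; exact g.2, fun hx => ⟨1, by rw [hx, one_smul]⟩⟩

theorem Setup.cases (h : Setup G a b c) (x : Ω) :
    x = a ∨ x ∈ orbit (stabilizer G a) b ∨ x ∈ orbit (stabilizer G a) c := by
  by_contra hx
  push Not at hx
  obtain ⟨hxa, hxb, hxc⟩ := hx
  have hab : a ∉ orbit (stabilizer G a) b := fun ha => by
    have := h.hb
    rw [← orbit_eq_iff.2 ha, h.orbit_self, Set.ncard_singleton] at this
    omega
  have hac : a ∉ orbit (stabilizer G a) c := fun ha => by
    have := h.hc
    rw [← orbit_eq_iff.2 ha, h.orbit_self, Set.ncard_singleton] at this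
    omega
  have hbc : Disjoint (orbit (stabilizer G a) b) (orbit (stabilizer G a) c) := Set.disjoint_left.2 fun y hy hy' => by
    have := h.hb
    rw [← orbit_eq_iff.2 hy, orbit_eq_iff.2 hy', h.hc] at this
    omega
  have hsub : insert x (insert a (orbit (stabilizer G a) b ∪ orbit (stabilizer G a) c)) ⊆ Set.univ := Set.subset_univ _
  have := Set.ncard_le_ncard hsub (Set.toFinite _)
  rw [Set.ncard_univ, Nat.card_eq_fintype_card, h.card, Set.ncard_insert_of_notMem (by simp [hxa, hxb, hxc]),
    Set.ncard_insert_of_notMem (by simp [hab, hac]), Set.ncard_union_eq hbc, h.hb, h.hc] at this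
  omega

theorem ncard_pair_orbit (htr : IsPretransitive G Ω) (hcard : Fintype.card Ω = 275) (x y : Ω) :
    (orbit G (x, y)).ncard = 275 * (orbit (stabilizer G x) y).ncard := by
  haveI := htr
  rw [← index_stabilizer G (x, y), ← index_stabilizer (stabilizer G x) y]
  have e1 : stabilizer G (x, y) = stabilizer G x ⊓ stabilizer G y := by
    ext g; simp [Prod.smul_mk, Prod.ext_iff]
  have e2 : stabilizer (stabilizer G x) y = (stabilizer G y).subgroupOf (stabilizer G x) := by
    ext g; simp [Subgroup.mem_subgroupOf, Subgroup.smul_def]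
  rw [e1, e2, ← Subgroup.relIndex_mul_index (inf_le_left : stabilizer G x ⊓ stabilizer G y ≤ stabilizer G x),
    Subgroup.inf_relIndex_left, index_stabilizer_of_transitive, Nat.card_eq_fintype_card, hcard, mul_comm]
  rfl

/-- The two directions of the orbital agree. -/
theorem Setup.swap (h : Setup G a b c) : (b, a) ∈ orbit G (a, b) := by
  haveI := h.trans
  obtain ⟨g, hg⟩ := exists_smul_eq G b a
  have hba : b ≠ a := fun e => by
    have := h.hb
    rw [e, h.orbit_self, Set.ncard_singleton] at this
    omega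
  have hmem : (a, g • a) ∈ orbit G (b, a) := ⟨g, by simp [hg]⟩
  have e : (orbit G (b, a)).ncard = (orbit G (a, b)).ncard := by
    have : orbit G (b, a) = Prod.swap '' orbit G (a, b) := by
      ext ⟨p, q⟩
      simp only [mem_orbit_iff, Set.mem_image, Prod.exists, Prod.swap_prod_mk, Prod.smul_mk, Prod.mk.injEq]
      exact ⟨fun ⟨k, h1, h2⟩ => ⟨q, p, ⟨k, h2, h1⟩, rfl, rfl⟩, fun ⟨q', p', ⟨k, h1, h2⟩, e1, e2⟩ =>
        ⟨k, h2.trans e1, h1.trans e2⟩⟩
    rw [this, Set.ncard_image_of_injective _ Prod.swap_injective]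
  rw [← orbit_eq_iff.2 hmem, ncard_pair_orbit h.trans h.card, ncard_pair_orbit h.trans h.card, h.hb] at e
  rcases h.cases (g • a) with hx | hx | hx
  · exact absurd (MulAction.injective g (hg.trans hx.symm)) hba
  · obtain ⟨k, hk⟩ := hx
    have hk' : k.1 • b = g • a := hk
    refine ⟨g⁻¹ * k.1, ?_⟩
    show (g⁻¹ * k.1) • (a, b) = (b, a)
    rw [Prod.smul_mk, mul_smul, mul_smul, k.2, hk', inv_smul_smul, Prod.mk.injEq]
    exact ⟨inv_smul_eq_iff.2 hg.symm, rfl⟩
  · rw [orbit_eq_iff.2 hx, h.hc] at e
    omega

/-- The orbital graph. -/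
def orbGraph (G : Subgroup (Equiv.Perm Ω)) (a b : Ω) : SimpleGraph Ω :=
  SimpleGraph.fromRel fun x y => (x, y) ∈ orbit G (a, b)

theorem Setup.adj_iff (h : Setup G a b c) {x y : Ω} : (orbGraph G a b).Adj x y ↔ (x, y) ∈ orbit G (a, b) := by
  rw [orbGraph, SimpleGraph.fromRel_adj]
  constructor
  · rintro ⟨-, hxy | ⟨g, hg⟩⟩
    · exact hxy
    · obtain ⟨k, hk⟩ := h.swap
      refine ⟨g * k, ?_⟩
      show (g * k) • (a, b) = (x, y)
      have hk' : k • (a, b) = (b, a) := hk
      have hg' : g • (a, b) = (y, x) := hg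
      rw [mul_smul, hk', Prod.smul_mk]
      simp only [Prod.smul_mk, Prod.mk.injEq] at hg'
      rw [hg'.1, hg'.2]
  · intro hxy
    refine ⟨?_, Or.inl hxy⟩
    rintro rfl
    obtain ⟨g, hg⟩ := hxy
    simp only [Prod.smul_mk, Prod.mk.injEq] at hg
    have := h.hb
    rw [← MulAction.injective g (hg.1.trans hg.2.symm), h.orbit_self, Set.ncard_singleton] at this
    omega

theorem Setup.smul_adj (h : Setup G a b c) (g : G) {x y : Ω} :
    (orbGraph G a b).Adj (g • x) (g • y) ↔ (orbGraph G a b).Adj x y := by
  rw [h.adj_iff, h.adj_iff, ← Prod.smul_mk]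
  exact ⟨fun hh => by simpa using mem_orbit_of_mem_orbit g⁻¹ hh, fun hh => mem_orbit_of_mem_orbit g hh⟩

theorem Setup.adj_base (h : Setup G a b c) {x : Ω} :
    (orbGraph G a b).Adj a x ↔ x ∈ orbit (stabilizer G a) b := by
  rw [h.adj_iff, mem_orbit_iff, mem_orbit_iff]
  constructor
  · rintro ⟨g, hg⟩
    simp only [Prod.smul_mk, Prod.mk.injEq] at hg
    exact ⟨⟨g, hg.1⟩, hg.2⟩
  · rintro ⟨g, hg⟩
    exact ⟨g.1, by rw [Prod.smul_mk, g.2]; exact congrArg (Prod.mk a) hg⟩

theorem Setup.srg (h : Setup G a b c) [DecidableRel (orbGraph G a b).Adj] :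
    (orbGraph G a b).IsSRGWith 275 112 30 56 := by
  classical
  haveI := h.trans
  set Γ := orbGraph G a b with hΓ
  let φ : G → (Γ ≃g Γ) := fun g => ⟨MulAction.toPerm g, fun {x y} => h.smul_adj g⟩
  have hdeg : ∀ x, Γ.degree x = 112 := fun x => by
    obtain ⟨g, hg⟩ := exists_smul_eq G a x
    have hx : Γ.degree x = Γ.degree a := by
      rw [← hg]; exact SimpleGraph.Iso.degree_eq (φ g) a
    rw [hx, ← h.hb, ← SimpleGraph.card_neighborFinset_eq_degree, ← Set.ncard_coe_finset]
    congr 1
    ext z
    simpa using h.adj_base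
  have hmap : ∀ (g : G) x y, Fintype.card (Γ.commonNeighbors (g • x) (g • y)) = Fintype.card (Γ.commonNeighbors x y) :=
    fun g x y => (Fintype.card_congr (Equiv.subtypeEquiv (MulAction.toPerm g) fun z => by
      show z ∈ Γ.commonNeighbors x y ↔ g • z ∈ Γ.commonNeighbors (g • x) (g • y)
      simp only [SimpleGraph.mem_commonNeighbors, hΓ, h.smul_adj])).symm
  have hl : ∀ x y, Γ.Adj x y → Fintype.card (Γ.commonNeighbors x y) = Fintype.card (Γ.commonNeighbors a b) := by
    intro x y hxy
    obtain ⟨g, hg⟩ := h.adj_iff.1 hxy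
    simp only [Prod.smul_mk, Prod.mk.injEq] at hg
    rw [← hmap g a b]
    congr! <;> [exact hg.1.symm; exact hg.2.symm]
  have hm : ∀ x y, x ≠ y → ¬ Γ.Adj x y → Fintype.card (Γ.commonNeighbors x y) = Fintype.card (Γ.commonNeighbors a c) := by
    intro x y hne hxy
    obtain ⟨g, hg⟩ := exists_smul_eq G a x
    rcases h.cases (g⁻¹ • y) with hy | hy | hy
    · exact absurd (hg.symm.trans (inv_smul_eq_iff.1 hy).symm) hne
    · refine absurd ?_ hxy
      have := (h.smul_adj g).2 (h.adj_base.2 hy)
      rwa [hg, smul_inv_smul] at this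
    · obtain ⟨k, hk⟩ := hy
      have hk' : k.1 • c = g⁻¹ • y := hk
      rw [← hmap (g * k.1) a c]
      congr! <;> [rw [mul_smul, k.2, hg]; rw [mul_smul, hk', smul_inv_smul]]
  set l := Fintype.card (Γ.commonNeighbors a b)
  set m := Fintype.card (Γ.commonNeighbors a c)
  have hS : Γ.IsSRGWith 275 112 l m := ⟨h.card, hdeg, hl, fun x y hne hxy => hm x y hne hxy⟩
  have heq := SimpleGraph.IsSRGWith.param_eq Γ hS (by norm_num)
  have hlt : l < 112 := by
    have hab : Γ.Adj a b := h.adj_base.2 (mem_orbit_self b)
    exact hdeg a ▸ hab.card_commonNeighbors_lt_degree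
  have hne111 : l ≠ 111 := by
    intro hl111
    let N : Ω → Finset Ω := fun x => insert x (Γ.neighborFinset x)
    have hN : ∀ x, (N x).card = 113 := fun x => by
      rw [Finset.card_insert_of_notMem (by simp), SimpleGraph.card_neighborFinset_eq_degree, hdeg]
    have hsame : ∀ x y, Γ.Adj x y → N x = N y := by
      intro x y hxy
      refine Finset.eq_of_subset_of_card_le (fun z hz => ?_) (by rw [hN, hN])
      simp only [N, Finset.mem_insert, SimpleGraph.mem_neighborFinset] at hz ⊢
      rcases hz with rfl | hz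
      · exact Or.inr hxy.symm
      by_cases hzy : z = y
      · exact Or.inl hzy
      right
      have hsub : (Γ.commonNeighbors x y).toFinset ⊆ (Γ.neighborFinset x).erase y := by
        intro w hw
        rw [Set.mem_toFinset, SimpleGraph.mem_commonNeighbors] at hw
        simp [hw.1, (hw.2.ne).symm]
      have hc' : ((Γ.neighborFinset x).erase y).card ≤ (Γ.commonNeighbors x y).toFinset.card := by
        rw [Set.toFinset_card, hl x y hxy, Finset.card_erase_of_mem (by simpa using hxy),
          SimpleGraph.card_neighborFinset_eq_degree, hdeg, hl111]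
      have hmem : z ∈ (Γ.commonNeighbors x y).toFinset := by
        rw [Finset.eq_of_subset_of_card_le hsub hc']
        simp [hzy, hz]
      rw [Set.mem_toFinset, SimpleGraph.mem_commonNeighbors] at hmem
      exact hmem.2
    have hfib : ∀ s ∈ (Finset.univ : Finset Ω).image N, (Finset.univ.filter fun x => N x = s).card = 113 := by
      intro s hs
      obtain ⟨x, -, rfl⟩ := Finset.mem_image.1 hs
      rw [← hN x]
      congr 1
      ext y
      simp only [Finset.mem_filter, Finset.mem_univ, true_and]
      constructor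
      · intro e; rw [← e]; exact Finset.mem_insert_self _ _
      · intro hy
        rcases Finset.mem_insert.1 hy with rfl | hy
        · rfl
        · exact (hsame x y (by simpa using hy)).symm
    have := Finset.card_eq_sum_card_image N (Finset.univ : Finset Ω)
    rw [Finset.sum_congr rfl hfib, Finset.sum_const, Finset.card_univ, h.card, smul_eq_mul] at this
    omega
  have hl30 : l = 30 := by
    have h81 : 81 ∣ 112 * (112 - l - 1) := ⟨2 * m, by omega⟩
    have := (Nat.Coprime.dvd_mul_left (by norm_num)).1 h81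
    omega
  have hm56 : m = 56 := by omega
  rw [hl30, hm56] at hS
  convert hS

theorem card_common_eq (Γ : SimpleGraph Ω) [DecidableRel Γ.Adj] {v k l m : ℕ} (hS : Γ.IsSRGWith v k l m) (x y : Ω) :
    (univ.filter fun z => Γ.Adj x z ∧ Γ.Adj y z).card = if x = y then k else if Γ.Adj x y then l else m := by
  classical
  by_cases hxy : x = y
  · subst hxy
    rw [if_pos rfl, ← hS.regular x, ← SimpleGraph.card_neighborFinset_eq_degree]
    congr 1
    ext z
    simp
  · have e : (univ.filter fun z => Γ.Adj x z ∧ Γ.Adj y z).card = Fintype.card (Γ.commonNeighbors x y) := by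
      rw [Fintype.card_subtype]
      congr 1
    rw [if_neg hxy, e]
    split_ifs with hadj
    · exact hS.of_adj x y hadj
    · exact hS.of_not_adj hxy hadj

/-- A point outside a clique of five is joined to two of its points. -/
theorem two_of_five (Γ : SimpleGraph Ω) [DecidableRel Γ.Adj] (hS : Γ.IsSRGWith 275 112 30 56) (C : Finset Ω)
    (hC : C.card = 5) (hclique : ∀ x ∈ C, ∀ y ∈ C, x ≠ y → Γ.Adj x y) (v : Ω) (hv : v ∉ C) :
    (C.filter fun x => Γ.Adj x v).card = 2 := by
  classical
  set n : Ω → ℤ := fun z => ∑ x ∈ C, if Γ.Adj x z then (1 : ℤ) else 0 with hn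
  have s1 : ∑ z : Ω, n z = 560 := by
    rw [hn, Finset.sum_comm, Finset.sum_congr rfl (g := fun _ => (112 : ℤ)) fun x _ => by
      have e : (univ.filter fun z => Γ.Adj x z).card = 112 := by
        rw [← hS.regular x, ← SimpleGraph.card_neighborFinset_eq_degree]
        congr 1
        ext z
        simp
      rw [Finset.sum_boole, e]
      norm_num, Finset.sum_const, hC]
    norm_num
  have s2 : ∑ z : Ω, n z * n z = 1160 := by
    have e : ∀ z, n z * n z = ∑ x ∈ C, ∑ y ∈ C, if Γ.Adj x z ∧ Γ.Adj y z then (1 : ℤ) else 0 := fun z => by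
      rw [hn, Finset.sum_mul_sum]
      refine Finset.sum_congr rfl fun x _ => Finset.sum_congr rfl fun y _ => ?_
      split_ifs with h1 h2 h3 <;> simp_all
    rw [Finset.sum_congr rfl fun z _ => e z, Finset.sum_comm]
    rw [Finset.sum_congr rfl (g := fun _ => (232 : ℤ)) fun x hx => by
      rw [Finset.sum_comm, Finset.sum_congr rfl (g := fun y => if x = y then (112 : ℤ) else 30) fun y hy => by
        rw [Finset.sum_boole, card_common_eq Γ hS x y]
        by_cases hxy : x = y
        · simp [hxy]
        · rw [if_neg hxy, if_neg hxy, if_pos (hclique x hx y hy hxy)]; norm_num]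
      rw [← Finset.insert_erase hx, Finset.sum_insert (Finset.notMem_erase x C), if_pos rfl,
        Finset.sum_congr rfl (g := fun _ => (30 : ℤ)) fun y hy => by rw [if_neg (Finset.ne_of_mem_erase hy).symm],
        Finset.sum_const, Finset.card_erase_of_mem hx, hC]
      norm_num, Finset.sum_const, hC]
    norm_num
  have s3 : ∑ z : Ω, (n z - 2) * (n z - 2) = 20 := by
    rw [Finset.sum_congr rfl (g := fun z => n z * n z - 4 * n z + 4) fun z _ => by ring]
    rw [Finset.sum_add_distrib, Finset.sum_sub_distrib, s2, ← Finset.mul_sum, s1, Finset.sum_const,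
      Finset.card_univ, hS.card]
    norm_num
  have hin : ∀ z ∈ C, n z = 4 := fun z hz => by
    simp only [hn]
    rw [← Finset.insert_erase hz, Finset.sum_insert (Finset.notMem_erase z C), if_neg (Γ.irrefl),
      Finset.sum_congr rfl (g := fun _ => (1 : ℤ)) fun y hy => by
        rw [if_pos (hclique y (Finset.mem_of_mem_erase hy) z hz (Finset.ne_of_mem_erase hy))],
      Finset.sum_const, Finset.card_erase_of_mem hz, hC]
    norm_num
  have hle := Finset.sum_le_sum_of_subset_of_nonneg (s := insert v C) (f := fun z => (n z - 2) * (n z - 2))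
    (Finset.subset_univ _) fun z _ _ => mul_self_nonneg _
  rw [s3, Finset.sum_insert hv, Finset.sum_congr rfl (g := fun _ => (4 : ℤ)) fun z hz => by rw [hin z hz]; norm_num,
    Finset.sum_const, hC] at hle
  have hv0 : n v - 2 = 0 := mul_self_eq_zero.1 (le_antisymm (by norm_num at hle; linarith) (mul_self_nonneg _))
  have e : n v = ((C.filter fun x => Γ.Adj x v).card : ℤ) := by
    simp only [hn]
    exact Finset.sum_boole _ _
  omega

end Cfsg.Lib.McLModel.RankThree
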