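import Cfsg.Agent.McLModel.RankThree.Checks
import Cfsg.Agent.McLModel.RankThree.CheckTree

/-!
A set of points meeting each of the 280 lines in two points is an image of one of the 162 rows.
-/

set_option autoImplicit false

namespace Cfsg.Lib.McLModel.RankThree

open Cfsg.Lib.PermCert

/-- A marking agrees with a set. -/
def Agrees (h : ℕ → Bool) (T F : ℕ) : Prop :=
  ∀ i < 112, (T.testBit i = true → h i = true) ∧ (F.testBit i = true → h i = false)

theorem linePt_lt {l : ℕ} (hl : l < 280) {t : ℕ} (ht : t < 4) : linePt l t < 112 := by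
  have h := List.all_eq_true.1 (List.all_eq_true.1 lines_ok l (List.mem_range.2 hl)) t (List.mem_range.2 ht)
  simp only [Bool.and_eq_true] at h
  exact Nat.le_of_ble_eq_true h.1

theorem bool_four : ∀ a b c d x y z w : Bool, (x = true → a = true) → (y = true → b = true) →
    (z = true → c = true) → (w = true → d = true) → a.toNat + b.toNat + c.toNat + d.toNat = 2 →
      x.toNat + y.toNat + z.toNat + w.toNat ≤ 2 ∧
        (x.toNat + y.toNat + z.toNat + w.toNat = 2 →
          (x = false → a = false) ∧ (y = false → b = false) ∧ (z = false → c = false) ∧ (w = false → d = false)) := by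
  intro a b c d x y z w
  cases a <;> cases b <;> cases c <;> cases d <;> cases x <;> cases y <;> cases z <;> cases w <;> decide

theorem put_bit {U T p i : ℕ} (h : (put U T p).testBit i = true) :
    T.testBit i = true ∨ (p = i ∧ U.testBit p = false) := by
  unfold put at h
  cases hU : U.testBit p with
  | true => rw [hU] at h; exact Or.inl h
  | false =>
    rw [hU] at h
    simp only [cond_false, Nat.testBit_or, Nat.one_shiftLeft, Nat.testBit_two_pow, Bool.or_eq_true,
      decide_eq_true_eq] at h
    exact h.imp id fun e => ⟨e, rfl⟩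

theorem setL_bit {U T l i : ℕ} (h : (setL U T l).testBit i = true) :
    T.testBit i = true ∨ ∃ t < 4, linePt l t = i ∧ U.testBit (linePt l t) = false := by
  unfold setL at h
  rcases put_bit h with h | e
  · rcases put_bit h with h | e
    · rcases put_bit h with h | e
      · rcases put_bit h with h | e
        · exact Or.inl h
        · exact Or.inr ⟨0, by norm_num, e⟩
      · exact Or.inr ⟨1, by norm_num, e⟩
    · exact Or.inr ⟨2, by norm_num, e⟩
  · exact Or.inr ⟨3, by norm_num, e⟩

theorem agrees_or {h : ℕ → Bool} {T F x : ℕ} (ha : Agrees h T F) :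
    (h x = true → Agrees h (T ||| (1 <<< x)) F) ∧ (h x = false → Agrees h T (F ||| (1 <<< x))) := by
  refine ⟨fun hx i hi => ⟨fun hb => ?_, (ha i hi).2⟩, fun hx i hi => ⟨(ha i hi).1, fun hb => ?_⟩⟩ <;>
    simp only [Nat.testBit_or, Nat.one_shiftLeft, Nat.testBit_two_pow, Bool.or_eq_true, decide_eq_true_eq] at hb
  · rcases hb with hb | rfl
    exacts [(ha i hi).1 hb, hx]
  · rcases hb with hb | rfl
    exacts [(ha i hi).2 hb, hx]

theorem line_facts {h : ℕ → Bool} (hh : ∀ l < 280, two4 h l) {T F l : ℕ} (ha : Agrees h T F) (hl : l < 280) :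
    cntL T l ≤ 2 ∧ cntL F l ≤ 2 ∧
    (cntL T l = 2 → ∀ t < 4, T.testBit (linePt l t) = false → h (linePt l t) = false) ∧
    (cntL F l = 2 → ∀ t < 4, F.testBit (linePt l t) = false → h (linePt l t) = true) := by
  have H := hh l hl
  unfold two4 at H
  have p := fun t (ht : t < 4) => ha _ (linePt_lt hl ht)
  obtain ⟨k1, k2⟩ := bool_four _ _ _ _ _ _ _ _ (p 0 (by norm_num)).1 (p 1 (by norm_num)).1 (p 2 (by norm_num)).1
    (p 3 (by norm_num)).1 H
  have H' : (!h (linePt l 0)).toNat + (!h (linePt l 1)).toNat + (!h (linePt l 2)).toNat +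
      (!h (linePt l 3)).toNat = 2 := by
    revert H
    generalize h (linePt l 0) = a; generalize h (linePt l 1) = b
    generalize h (linePt l 2) = c; generalize h (linePt l 3) = d
    cases a <;> cases b <;> cases c <;> cases d <;> decide
  have q : ∀ t < 4, F.testBit (linePt l t) = true → (!h (linePt l t)) = true := fun t ht e => by
    rw [(p t ht).2 e]; rfl
  obtain ⟨m1, m2⟩ := bool_four _ _ _ _ _ _ _ _ (q 0 (by norm_num)) (q 1 (by norm_num)) (q 2 (by norm_num))
    (q 3 (by norm_num)) H'
  refine ⟨k1, m1, fun e t ht => ?_, fun e t ht hF => ?_⟩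
  · obtain ⟨a, b, c, d⟩ := k2 e
    interval_cases t <;> assumption
  · obtain ⟨a, b, c, d⟩ := m2 e
    have : (!h (linePt l t)) = false := by
      interval_cases t <;> [exact a hF; exact b hF; exact c hF; exact d hF]
    simpa using this

theorem run_sound {h : ℕ → Bool} (hh : ∀ l < 280, two4 h l) : ∀ f T F pos q, Agrees h T F →
    runT f T F pos = some q → ∃ k < 4, ∃ j < 162, ∀ i < 112, h (ap (sigTab k).1 i) = inS j i := by
  intro f
  induction f with
  | zero => intro T F pos q _ hr; simp [runT] at hr
  | succ f ih =>
    intro T F pos q ha hr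
    simp only [runT] at hr
    split_ifs at hr with h0 h0' hbd h1 h1' h2 h2' h2''
    · simp only [leafOK, Bool.and_eq_true, beq_iff_eq, List.all_eq_true, List.mem_range] at h0'
      obtain ⟨⟨hfull, hv⟩, hrow⟩ := h0'
      have hv : tok pos / 4 < 648 := Nat.le_of_ble_eq_true hv
      refine ⟨tok pos / 4 / 162, by omega, tok pos / 4 % 162, Nat.mod_lt _ (by norm_num), fun i hi => ?_⟩
      rw [← hrow i hi]
      have hval : valid 112 (sigTab (tok pos / 4 / 162)) = true := by
        have hk : tok pos / 4 / 162 < sigTabs.length := by rw [sig_aut.2]; omega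
        rw [sigTab, List.getD_eq_getElem _ _ hk]
        have h' := List.all_eq_true.1 sig_aut.1 _ (List.getElem_mem hk)
        simp only [autOK, Bool.and_eq_true] at h'
        exact h'.1
      set p := ap (sigTab (tok pos / 4 / 162)).1 i
      have hp : p < 112 := valid_lt hval hi
      cases hT : T.testBit p with
      | true => exact (ha p hp).1 hT
      | false =>
        have e : (T ||| F).testBit p = true := by
          rw [hfull, Nat.testBit_two_pow_sub_one]
          exact decide_eq_true hp
        rw [Nat.testBit_or, hT, Bool.false_or] at e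
        exact (ha p hp).2 e
    · have hl : tok pos / 4 < 280 := by
        by_contra hc
        exact hbd ⟨by omega, by omega⟩
      obtain ⟨hT, hF, -, -⟩ := line_facts hh ha hl
      rcases h1' with h1' | h1' <;> omega
    · have hl : tok pos / 4 < 280 := by
        by_contra hc
        exact hbd ⟨by omega, by omega⟩
      refine ih _ _ _ q (fun i hi => ⟨(ha i hi).1, fun hb => ?_⟩) hr
      rcases setL_bit hb with hb | ⟨t, ht, rfl, hU⟩
      · exact (ha i hi).2 hb
      · exact (line_facts hh ha hl).2.2.1 h2' t ht hU
    · have hl : tok pos / 4 < 280 := by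
        by_contra hc
        exact hbd ⟨by omega, by omega⟩
      refine ih _ _ _ q (fun i hi => ⟨fun hb => ?_, (ha i hi).2⟩) hr
      rcases setL_bit hb with hb | ⟨t, ht, rfl, hU⟩
      · exact (ha i hi).1 hb
      · exact (line_facts hh ha hl).2.2.2 h2'' t ht hU
    · cases hx : h (tok pos / 4) with
      | true =>
        split at hr
        · next q' e => exact ih _ _ _ q' ((agrees_or ha).1 hx) e
        · simp at hr
      | false =>
        split at hr
        · exact ih _ _ _ q ((agrees_or ha).2 hx) hr
        · simp at hr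

/-- A set of two points on every line is an image of a row. -/
theorem hemisystem {h : ℕ → Bool} (hh : ∀ l < 280, two4 h l) :
    ∃ k < 4, ∃ j < 162, ∀ i < 112, h (ap (sigTab k).1 i) = inS j i :=
  run_sound hh _ _ _ _ _ (fun i _ => ⟨by simp, by simp⟩) tree_ok

end Cfsg.Lib.McLModel.RankThree
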