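import Cfsg.Agent.McLModel.RankThree.Checks
import Cfsg.Agent.McLModel.RankThree.CheckNear
import Cfsg.Agent.McLModel.PtStab

/-!
The graph on 112 points: elations generate a group normalised by all automorphisms.
-/

set_option autoImplicit false
set_option maxHeartbeats 1000000

namespace Cfsg.Lib.McLModel.RankThree

open Cfsg.Lib.PermCert Cfsg.Lib.CosetCert Cfsg.Lib.McLModel.PtStab MulAction

/-- The first of the 112 points. -/
def o : Fin 112 := ⟨0, by norm_num⟩

/-- The automorphisms of the graph on 112 points. -/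
def aut : Subgroup (Equiv.Perm (Fin 112)) where
  carrier := {p | ∀ i j : Fin 112, adjB (p i).val (p j).val = adjB i.val j.val}
  one_mem' := fun _ _ => rfl
  mul_mem' := by
    intro g h hg hh i j
    exact (hg (h i) (h j)).trans (hh i j)
  inv_mem' := by
    intro g hg i j
    have := hg (g⁻¹ i) (g⁻¹ j)
    rwa [show g (g⁻¹ i) = i from g.apply_symm_apply i, show g (g⁻¹ j) = j from g.apply_symm_apply j, eq_comm] at this

theorem perm_aut {g : PP} (h : autOK g = true) : valid 112 g = true ∧ perm 112 g ∈ aut := by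
  simp only [autOK, Bool.and_eq_true, List.all_eq_true, List.mem_range, beq_iff_eq] at h
  refine ⟨h.1, fun i j => ?_⟩
  rw [perm_apply h.1, perm_apply h.1]
  exact h.2 i.val i.isLt j.val j.isLt

theorem qP_eq (l : ℕ) : qP l = perm 112 (qTabs.getD l (0, 0)) := rfl

theorem qP_aut {l : ℕ} (hl : l < 4) : qP l ∈ aut := by
  refine (perm_aut ?_).2
  rw [List.getD_eq_getElem _ _ (show l < qTabs.length from hl)]
  exact List.all_eq_true.1 q_aut _ (List.getElem_mem _)

theorem gA_aut : gA ≤ aut := (Subgroup.closure_le _).2 (by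
  rintro _ ⟨l, hl, rfl⟩
  exact qP_aut (by have : l < 2 := hl; omega))

theorem qP_mem {l : ℕ} (hl : l < 4) : qP l ∈ gA := by
  have h : ∀ l < 2, qP l ∈ gA := fun l hl => Subgroup.subset_closure ⟨l, hl, rfl⟩
  interval_cases l
  · exact h 0 (by norm_num)
  · exact h 1 (by norm_num)
  · exact qP_inv.1 ▸ inv_mem (h 0 (by norm_num))
  · exact qP_inv.2 ▸ inv_mem (h 1 (by norm_num))

theorem word_mem {w : List ℕ} {g : PP} (h : wordOK w g = true) : valid 112 g = true ∧ perm 112 g ∈ gA := by
  simp only [wordOK, Bool.and_eq_true, List.all_eq_true, List.mem_range, beq_iff_eq] at h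
  obtain ⟨⟨hw, hv⟩, he⟩ := h
  refine ⟨hv, ?_⟩
  have e : perm 112 g = (w.map qP).prod := by
    refine Equiv.ext fun x => Fin.ext ?_
    rw [perm_apply hv, ← he x.val x.isLt, evalQ, show (w.map qP).prod = wperm 112 (w.map fun l => qTabs.getD l (0, 0)) by
      rw [wperm, List.map_map]; rfl, wperm_apply fun z hz => ?_]
    obtain ⟨l, hl, rfl⟩ := List.mem_map.1 hz
    exact qTab_valid (Nat.le_of_ble_eq_true (hw l hl))
  rw [e]
  refine Subgroup.list_prod_mem _ fun z hz => ?_
  obtain ⟨l, hl, rfl⟩ := List.mem_map.1 hz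
  exact qP_mem (Nat.le_of_ble_eq_true (hw l hl))

theorem gA_reach (x : Fin 112) : ∃ q ∈ gA, q o = x := by
  let P : ℕ → Prop := fun n => ∃ q ∈ gA, (q o).val = n
  have hP : ∀ e ∈ reachPts, P e.1 :=
    reach_sound P (fun l hl p ⟨q, hq, e⟩ => ⟨qP l * q, mul_mem (qP_mem (by omega)) hq, by
      rw [Equiv.Perm.mul_apply, qP_eq, perm_apply (qTab_valid (by omega)), e]⟩) _ _
      (fun n hn => by rw [List.mem_singleton] at hn; exact ⟨1, one_mem _, hn.symm⟩) reach_pts.1
  have h := List.all_eq_true.1 reach_pts.2 x.val (List.mem_range.2 x.isLt)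
  simp only [Bool.or_eq_true, beq_iff_eq, List.any_eq_true] at h
  rcases h with h | ⟨e, he, hx⟩
  · exact ⟨1, one_mem _, Fin.ext h.symm⟩
  · obtain ⟨q, hq, hv⟩ := hP e he
    exact ⟨q, hq, Fin.ext (hv.trans hx)⟩

theorem adjB_symm (i j : Fin 112) : adjB i.val j.val = adjB j.val i.val := by
  have h1 := List.all_eq_true.1 (List.all_eq_true.1 dots_near i.val (List.mem_range.2 i.isLt)) j.val
    (List.mem_range.2 j.isLt)
  have h2 := List.all_eq_true.1 (List.all_eq_true.1 dots_near j.val (List.mem_range.2 j.isLt)) i.val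
    (List.mem_range.2 i.isLt)
  simp only [beq_iff_eq] at h1 h2
  rw [← h1, ← h2, Cfsg.Lib.Leech.Stab.dotK_eq, Cfsg.Lib.Leech.Stab.dotK_eq]
  simp only [Cfsg.dotInt, mul_comm]

/-- An elation. -/
def IsEl (x : Fin 112) (p : Equiv.Perm (Fin 112)) : Prop :=
  p x = x ∧ ∀ y : Fin 112, adjB x.val y.val = true →
    (p y = y ∨ adjB y.val (p y).val = true) ∧ p (p (p y)) = y

theorem IsEl.conj {x : Fin 112} {p r : Equiv.Perm (Fin 112)} (hp : IsEl x p) (hr : r ∈ aut) :
    IsEl (r x) (r * p * r⁻¹) := by
  refine ⟨by simp [Equiv.Perm.mul_apply, hp.1], fun y hy => ?_⟩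
  have hy' : adjB x.val (r⁻¹ y).val = true := by
    rw [← hr x (r⁻¹ y), show r (r⁻¹ y) = y from r.apply_symm_apply y]; exact hy
  obtain ⟨h1, h2⟩ := hp.2 _ hy'
  refine ⟨?_, by simp [Equiv.Perm.mul_apply] at h2 ⊢; simp [h2]⟩
  rcases h1 with h1 | h1
  · left; simp [Equiv.Perm.mul_apply] at h1 ⊢; simp [h1]
  · right
    have := hr (r⁻¹ y) (p (r⁻¹ y))
    rw [show r (r⁻¹ y) = y from r.apply_symm_apply y, h1] at this
    simpa [Equiv.Perm.mul_apply] using this

theorem three_agree : ∀ f g : Fin 3 → Fin 3, (∀ k, f (f (f k)) = k) → (∀ k, g (g (g k)) = k) → f 0 = g 0 → f = g := by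
  decide +kernel

theorem el_agree {p e : Equiv.Perm (Fin 112)} (hp : IsEl o p) (he : IsEl o e) (pa : p ∈ aut) (ea : e ∈ aut)
    {z : Fin 112} (hz : z.val = z0Nat) (hpe : p z = e z) : p = e := by
  have fixo : ∀ {r : Equiv.Perm (Fin 112)}, IsEl o r → r ∈ aut → ∀ y : Fin 112, adjB 0 y.val = true →
      adjB 0 (r y).val = true := fun hr ra y hy => by
    have := ra o y
    rw [hr.1] at this
    exact this.trans hy
  have hnear : ∀ y : Fin 112, adjB 0 y.val = true → p y = e y := by
    intro y hy
    have h := List.all_eq_true.1 near_exists y.val (List.mem_range.2 y.isLt)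
    simp only [hy, Bool.not_true, Bool.false_or, List.any_eq_true, List.mem_range, Bool.and_eq_true,
      Bool.or_eq_true, beq_iff_eq] at h
    obtain ⟨m', hm', ⟨hm0, hmz⟩, hmy⟩ := h
    obtain ⟨m, rfl⟩ : ∃ m : Fin 112, m.val = m' := ⟨⟨m', hm'⟩, rfl⟩
    have em : p m = e m := by
      have hzm : ∀ {r : Equiv.Perm (Fin 112)}, r ∈ aut → adjB (r z).val (r m).val = true := fun ra => by
        rw [ra z m, hz]; exact hmz
      set n := e⁻¹ (p m) with hn
      have en : e n = p m := e.apply_symm_apply _
      have hn0 : adjB 0 n.val = true := by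
        have := ea o n
        rw [he.1, en] at this
        exact this.symm.trans (fixo hp pa m hm0)
      have hnz : adjB z0Nat n.val = true := by
        have := ea z n
        rw [en, hz] at this
        exact this.symm.trans (hpe ▸ hzm pa)
      by_cases hnm : adjB m.val n.val = true
      · have := List.all_eq_true.1 near_unique m.val (List.mem_range.2 m.isLt)
        simp only [hm0, hmz, Bool.and_self, Bool.not_true, Bool.false_or, List.all_eq_true, List.mem_range,
          Bool.or_eq_true, Bool.not_eq_true'] at this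
        rcases this n.val n.isLt with h | h
        · simp [hn0, hnz] at h
        · simp [hnm] at h
      · rcases (hp.2 m hm0).1 with h1 | h1 <;> rcases (he.2 m hm0).1 with h2 | h2
        · rw [h1, h2]
        · exfalso
          refine hnm ?_
          have := ea m n
          rw [en, h1] at this
          rw [← this, adjB_symm]
          exact h2
        · exfalso
          refine hnm ?_
          have := ea m n
          rw [en, h2] at this
          rw [← this]
          exact h1
        · by_contra hne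
          refine hnm ?_
          have := ea m n
          rw [en] at this
          rw [← this]
          have ht := List.all_eq_true.1 tri_ok m.val (List.mem_range.2 m.isLt)
          simp only [hm0, Bool.not_true, Bool.false_or, List.all_eq_true, List.mem_range] at ht
          have ht' := ht (e m).val (e m).isLt
          simp only [fixo he ea m hm0, h2, Bool.and_self, Bool.not_true, Bool.false_or, List.any_eq_true,
            List.mem_range, triOK, Bool.and_eq_true, List.all_eq_true, beq_iff_eq, Bool.or_eq_true] at ht'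
          obtain ⟨w, hw, ⟨⟨hw0, hwm⟩, hwe⟩, hall⟩ := ht'
          rcases hall (p m).val (p m).isLt with h | h
          · simp [fixo hp pa m hm0] at h
          · rcases h.1.1 with (h | h) | h
            · simp [h1] at h
            · exact absurd (Fin.ext h) hne
            · rw [h]; exact hwe
    by_cases hym : m = y
    · exact hym ▸ em
    replace hmy : adjB m.val y.val = true := hmy.resolve_left fun e => hym (Fin.ext e)
    have ht := List.all_eq_true.1 tri_ok m.val (List.mem_range.2 m.isLt)
    simp only [hm0, Bool.not_true, Bool.false_or, List.all_eq_true, List.mem_range] at ht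
    have ht' := ht y.val y.isLt
    simp only [hy, hmy, Bool.and_self, Bool.not_true, Bool.false_or, List.any_eq_true, List.mem_range, triOK,
      Bool.and_eq_true, List.all_eq_true, beq_iff_eq, Bool.or_eq_true] at ht'
    obtain ⟨w', hw', ⟨⟨hw0, hwm⟩, hwy⟩, hall⟩ := ht'
    let w : Fin 112 := ⟨w', hw'⟩
    let t : Fin 3 → Fin 112 := ![m, y, w]
    have ht0 : ∀ k, adjB 0 (t k).val = true := fun k => by fin_cases k <;> assumption
    have hmem : ∀ {r : Equiv.Perm (Fin 112)}, IsEl o r → r ∈ aut → ∀ k, ∃ k', r (t k) = t k' := by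
      intro r hr ra k
      rcases (hr.2 _ (ht0 k)).1 with h1 | h1
      · exact ⟨k, h1⟩
      have h := (hall (r (t k)).val (r (t k)).isLt).resolve_left (by simp [fixo hr ra _ (ht0 k)])
      fin_cases k
      · rcases h.1.1 with (h | h) | h
        · exact absurd h (by simp at h1 ⊢; exact h1)
        · exact ⟨1, Fin.ext h⟩
        · exact ⟨2, Fin.ext h⟩
      · rcases h.1.2 with (h | h) | h
        · exact absurd h (by simp at h1 ⊢; exact h1)
        · exact ⟨0, Fin.ext h⟩
        · exact ⟨2, Fin.ext h⟩
      · rcases h.2 with (h | h) | h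
        · exact absurd h (by simp at h1 ⊢; exact h1)
        · exact ⟨0, Fin.ext h⟩
        · exact ⟨1, Fin.ext h⟩
    have hne : ∀ a : Fin 112, adjB a.val a.val = false := by
      intro a
      by_contra hc
      rw [Bool.not_eq_false] at hc
      have hd := List.all_eq_true.1 (List.all_eq_true.1 dots_near a.val (List.mem_range.2 a.isLt)) a.val
        (List.mem_range.2 a.isLt)
      simp only [beq_iff_eq, hc] at hd
      rw [Cfsg.Lib.Leech.Stab.dotK_eq] at hd
      have h32 := List.all_eq_true.1 keys_short (subPt a.val) (List.mem_range.2 (subP a).isLt)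
      simp only [Bool.and_eq_true, decide_eq_true_eq] at h32
      have e : Cfsg.dotInt (Cfsg.Lib.Leech.Stab.dec (key (subPt a.val))) (Cfsg.Lib.Leech.Stab.dec (key (subPt a.val))) = 32 := by
        rw [← h32.1.2]
        simp [Cfsg.dotInt, Cfsg.sqNorm, sq]
      omega
    have hinj : Function.Injective t := by
      intro i j h
      have n1 : m ≠ y := hym
      have n2 : m ≠ w := fun e => by
        have := congrArg Fin.val e; rw [this] at hwm; exact Bool.false_ne_true ((hne w).symm.trans hwm)
      have n3 : y ≠ w := fun e => by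
        have := congrArg Fin.val e; rw [this] at hwy; exact Bool.false_ne_true ((hne w).symm.trans hwy)
      fin_cases i <;> fin_cases j <;> simp_all [t]
    choose f hf using hmem hp pa
    choose g hg using hmem he ea
    have key : f = g := three_agree f g
      (fun k => hinj (by rw [← hf, ← hf, ← hf]; exact (hp.2 _ (ht0 k)).2))
      (fun k => hinj (by rw [← hg, ← hg, ← hg]; exact (he.2 _ (ht0 k)).2))
      (hinj (by rw [← hf, ← hg]; exact em))
    exact (hf 1).trans ((congrArg t (congrFun key 1)).trans (hg 1).symm)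
  refine Equiv.ext fun x => ?_
  by_cases hx0 : x = o
  · rw [hx0, hp.1, he.1]
  by_cases hx1 : adjB 0 x.val = true
  · exact hnear x hx1
  by_contra hne
  have hfar : ∀ {r : Equiv.Perm (Fin 112)}, IsEl o r → r ∈ aut → (r x).val ≠ 0 ∧ adjB 0 (r x).val = false :=
    fun {r} hr ra => ⟨fun e => hx0 (r.injective ((Fin.ext e : r x = o).trans hr.1.symm)), by
      have := ra o x
      rw [hr.1] at this
      exact this.trans (Bool.eq_false_iff.2 hx1)⟩
  have key : ∀ a b : Fin 112, b.val < a.val → a.val ≠ 0 → adjB 0 a.val = false → b.val ≠ 0 → adjB 0 b.val = false →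
      (adjMasks.getD 0 0 &&& adjMasks.getD a.val 0) = (adjMasks.getD 0 0 &&& adjMasks.getD b.val 0) → False := by
    intro a b hlt a0 a1 b0 b1 h
    have := List.all_eq_true.1 traces a.val (List.mem_range.2 a.isLt)
    simp only [Bool.or_eq_true, beq_iff_eq, a0, a1, false_or, Bool.false_eq_true, List.all_eq_true, List.mem_range] at this
    rcases this b.val hlt with (h' | h') | h'
    · exact b0 h'
    · rw [b1] at h'; exact Bool.noConfusion h'
    · exact bne_iff_ne.1 h' h
  have hmask : (adjMasks.getD 0 0 &&& adjMasks.getD (p x).val 0) = (adjMasks.getD 0 0 &&& adjMasks.getD (e x).val 0) := by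
    refine Nat.eq_of_testBit_eq fun i => ?_
    rw [Nat.testBit_and, Nat.testBit_and]
    show (adjB 0 i && adjB (p x).val i) = (adjB 0 i && adjB (e x).val i)
    by_cases hi : adjB 0 i = true
    · have hi' : i < 112 := by
        by_contra hc
        have hb := List.all_eq_true.1 adj_bound (adjMasks.getD 0 0) (by
          rw [List.getD_eq_getElem _ _ (show 0 < adjMasks.length by decide)]; exact List.getElem_mem _)
        have := Nat.testBit_lt_two_pow (i := i) (lt_of_lt_of_le (Nat.le_of_ble_eq_true hb)
          (Nat.pow_le_pow_right (by norm_num) (not_lt.1 hc)))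
        rw [adjB, this] at hi
        exact Bool.noConfusion hi
      set j := p⁻¹ ⟨i, hi'⟩ with hj
      have pj : p j = ⟨i, hi'⟩ := p.apply_symm_apply _
      have hj0 : adjB 0 j.val = true := by
        have := pa o j
        rw [hp.1, pj] at this
        exact this.symm.trans hi
      rw [hi, Bool.true_and, Bool.true_and]
      have e1 := pa x j
      have e2 := ea x j
      rw [pj] at e1
      rw [← hnear j hj0, pj] at e2
      exact e1.trans e2.symm
    · rw [Bool.eq_false_iff.2 hi, Bool.false_and, Bool.false_and]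
  rcases lt_trichotomy (p x).val (e x).val with h | h | h
  · exact key _ _ h (hfar he ea).1 (hfar he ea).2 (hfar hp pa).1 (hfar hp pa).2 hmask.symm
  · exact hne (Fin.ext h)
  · exact key _ _ h (hfar hp pa).1 (hfar hp pa).2 (hfar he ea).1 (hfar he ea).2 hmask

theorem el_zero_mem {p : Equiv.Perm (Fin 112)} (hp : IsEl o p) (pa : p ∈ aut) : p ∈ gA := by
  obtain ⟨-, -, h0, h1, hz⟩ := reach_far
  let z : Fin 112 := ⟨z0Nat, hz⟩
  have hb := List.all_eq_true.1 ez_ok.2 (p z).val (List.mem_range.2 (p z).isLt)
  simp only [Bool.or_eq_true, beq_iff_eq, List.any_eq_true] at hb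
  rcases hb with (hb | hb) | ⟨e, he, hv⟩
  · exact absurd (p.injective ((Fin.ext hb : p z = o).trans hp.1.symm)) fun e => h1 (congrArg Fin.val e)
  · have := pa o z
    rw [hp.1] at this
    change adjB 0 (p z).val = adjB 0 z0Nat at this
    rw [hb, h0] at this
    exact Bool.noConfusion this
  have hok := List.all_eq_true.1 ez_ok.1 e he
  simp only [ezOK, Bool.and_eq_true, beq_iff_eq, List.all_eq_true, List.mem_range, Bool.or_eq_true,
    Bool.not_eq_true'] at hok
  obtain ⟨⟨hz0, ho⟩, hel⟩ := hok
  have hw : ∀ g ∈ ezWord e.2, valid 112 g = true ∧ perm 112 g ∈ gA := by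
    intro g hg
    simp only [ezWord, List.mem_append, List.mem_replicate] at hg
    rcases hg with ((⟨-, rfl⟩ | ⟨-, rfl⟩) | ⟨-, rfl⟩) | ⟨-, rfl⟩
    · exact word_mem (List.all_eq_true.1 basis_ok 0 (by simp))
    · exact word_mem (List.all_eq_true.1 basis_ok 1 (by simp))
    · exact word_mem (List.all_eq_true.1 basis_ok 2 (by simp))
    · exact word_mem (List.all_eq_true.1 basis_ok 3 (by simp))
  set r := wperm 112 (ezWord e.2)
  have hr : ∀ x : Fin 112, (r x).val = evalWord (ezWord e.2) x.val := fun x => wperm_apply (fun g hg => (hw g hg).1) x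
  have rA : r ∈ gA := Subgroup.list_prod_mem _ fun g hg => by
    obtain ⟨g', hg', rfl⟩ := List.mem_map.1 hg
    exact (hw g' hg').2
  have rel : IsEl o r := ⟨Fin.ext ((hr o).trans ho), fun y hy => by
    rcases hel y.val y.isLt with h | ⟨h, h'⟩
    · rw [show o.val = 0 from rfl, h] at hy
      exact Bool.noConfusion hy
    refine ⟨?_, Fin.ext (by rw [hr, hr, hr]; exact h')⟩
    rcases h with h | h
    · exact Or.inl (Fin.ext ((hr y).trans h))
    · exact Or.inr (by rw [hr]; exact h)⟩
  have := el_agree hp rel pa (gA_aut rA) (z := z) rfl (Fin.ext (by rw [hr]; exact hv.symm.trans hz0.symm))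
  exact this ▸ rA

theorem el_mem {x : Fin 112} {p : Equiv.Perm (Fin 112)} (hp : IsEl x p) (pa : p ∈ aut) : p ∈ gA := by
  obtain ⟨q, hq, rfl⟩ := gA_reach x
  have hqa := gA_aut hq
  have h := hp.conj (inv_mem hqa)
  rw [show q⁻¹ (q o) = o from q.symm_apply_apply o] at h
  have h' := el_zero_mem h (mul_mem (mul_mem (inv_mem hqa) pa) (inv_mem (inv_mem hqa)))
  have := mul_mem (mul_mem hq h') (inv_mem hq)
  simpa [mul_assoc] using this

theorem conj_gA {r q : Equiv.Perm (Fin 112)} (hr : r ∈ aut) (hq : q ∈ gA) : r * q * r⁻¹ ∈ gA := by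
  have hgen : ∀ l < 2, r * qP l * r⁻¹ ∈ gA := by
    intro l hl
    have h := List.all_eq_true.1 prod_ok.2 l (List.mem_range.2 hl)
    simp only [Bool.and_eq_true, beq_iff_eq, List.all_eq_true, List.mem_range] at h
    obtain ⟨hlen, hw⟩ := h
    set L := prodTabs.getD l []
    have hL : ∀ g ∈ L, valid 112 g = true ∧ r * perm 112 g * r⁻¹ ∈ gA := by
      intro g hg
      obtain ⟨t, ht, rfl⟩ := List.getElem_of_mem hg
      have h := List.all_eq_true.1 (List.all_eq_true.1 prod_ok.1 l (List.mem_range.2 hl)) t
        (List.mem_range.2 (hlen ▸ ht))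
      rw [List.getD_eq_getElem _ _ ht] at h
      simp only [Bool.and_eq_true, elOK, List.all_eq_true, List.mem_range, beq_iff_eq, Bool.or_eq_true,
        Bool.not_eq_true'] at h
      obtain ⟨⟨ha, hfix, hel⟩, hx⟩ := h
      obtain ⟨hv, hpa⟩ := perm_aut ha
      have hel' : IsEl ⟨_, Nat.le_of_ble_eq_true hx⟩ (perm 112 L[t]) := by
        refine ⟨Fin.ext (by rw [perm_apply hv]; exact hfix), fun y hy => ?_⟩
        rcases hel y.val y.isLt with h | ⟨h, h'⟩
        · rw [h] at hy; exact Bool.noConfusion hy
        refine ⟨?_, Fin.ext (by rw [perm_apply hv, perm_apply hv, perm_apply hv]; exact h')⟩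
        rcases h with h | h
        · exact Or.inl (Fin.ext (by rw [perm_apply hv]; exact h))
        · exact Or.inr (by rw [perm_apply hv]; exact h)
      exact ⟨hv, el_mem (hel'.conj hr) (mul_mem (mul_mem hr hpa) (inv_mem hr))⟩
    have e : qP l = wperm 112 L := Equiv.ext fun x => Fin.ext (by
      rw [wperm_apply (fun g hg => (hL g hg).1), hw x.val x.isLt, qP_eq, perm_apply (qTab_valid (by omega))])
    rw [e, wperm, ← MulAut.conj_apply, map_list_prod, List.map_map]
    refine Subgroup.list_prod_mem _ fun g hg => ?_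
    obtain ⟨g', hg', rfl⟩ := List.mem_map.1 hg
    exact (hL g' hg').2
  have hle : gA ≤ gA.comap (MulAut.conj r).toMonoidHom := (Subgroup.closure_le _).2 (by
    rintro _ ⟨l, hl, rfl⟩
    exact hgen l hl)
  exact hle hq

end Cfsg.Lib.McLModel.RankThree
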