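import Cfsg.Agent.McLModel.RankThree.CheckFar
import Cfsg.Agent.McLModel.RankThree.Quad

/-!
The graph on 275 vectors and its automorphisms fixing a point.
-/

set_option autoImplicit false
set_option maxHeartbeats 1000000
set_option maxRecDepth 20000
set_option linter.style.haveILetI false

namespace Cfsg.Lib.McLModel.RankThree

open Cfsg.Lib.PermCert Cfsg.Lib.CosetCert Cfsg.Lib.Leech Cfsg.Lib.Leech.Stab Cfsg.Lib.McLModel.PtStab MulAction

/-- Adjacency of the 275 vectors. -/
def adjM (x y : Fin 275) : Prop := Cfsg.dotInt (McLModel.vec x : GolayPt → ℤ) (McLModel.vec y) = 8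

theorem adjM_key (x y : Fin 275) : adjM x y ↔ dotK (key x.val) (key y.val) = 8 := by
  rw [dotK_eq]; rfl

theorem adjM_symm {x y : Fin 275} : adjM x y ↔ adjM y x := by
  unfold adjM
  simp only [Cfsg.dotInt, mul_comm]

/-- A point not joined to the first one. -/
def nbP (j : Fin 162) : Fin 275 :=
  ⟨nbPt j.val, by
    have h := cls_ok.2
    simp only [Bool.and_eq_true, List.all_eq_true, List.mem_range] at h
    exact Nat.le_of_ble_eq_true (h.2 j.val j.isLt).1⟩

theorem cls_pt0 : cls pt0.val = 0 := by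
  have h := cls_ok.2
  simp only [Bool.and_eq_true, beq_iff_eq] at h
  exact h.1.1

theorem cls_sub (i : Fin 112) : cls (subP i).val = 1 + i.val := by
  have h := cls_ok.2
  simp only [Bool.and_eq_true, List.all_eq_true, List.mem_range, beq_iff_eq] at h
  exact h.1.2 i.val i.isLt

theorem cls_nb (j : Fin 162) : cls (nbP j).val = 113 + j.val := by
  have h := cls_ok.2
  simp only [Bool.and_eq_true, List.all_eq_true, List.mem_range, beq_iff_eq] at h
  exact (h.2 j.val j.isLt).2

theorem three_kinds (x : Fin 275) : x = pt0 ∨ (∃ i, x = subP i) ∨ ∃ j, x = nbP j := by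
  have h := List.all_eq_true.1 cls_ok.1 x.val (List.mem_range.2 x.isLt)
  simp only [Bool.or_eq_true, Bool.and_eq_true, beq_iff_eq] at h
  rcases h with (⟨-, h⟩ | ⟨⟨h1, h2⟩, h⟩) | ⟨⟨h1, h2⟩, h⟩
  · exact Or.inl (Fin.ext h)
  · have := Nat.le_of_ble_eq_true h1
    exact Or.inr (Or.inl ⟨⟨cls x.val - 1, by have := Nat.le_of_ble_eq_true h2; omega⟩, Fin.ext h.symm⟩)
  · have := Nat.le_of_ble_eq_true h1
    exact Or.inr (Or.inr ⟨⟨cls x.val - 113, by have := Nat.le_of_ble_eq_true h2; omega⟩, Fin.ext h.symm⟩)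

theorem adj_pt0_sub (i : Fin 112) : adjM pt0 (subP i) := by
  have h := List.all_eq_true.1 dots_base.1 i.val (List.mem_range.2 i.isLt)
  exact (adjM_key _ _).2 (beq_iff_eq.1 h)

theorem not_adj_pt0_nb (j : Fin 162) : ¬ adjM pt0 (nbP j) := by
  have h := List.all_eq_true.1 dots_base.2.1 j.val (List.mem_range.2 j.isLt)
  exact fun e => bne_iff_ne.1 h ((adjM_key _ _).1 e)

theorem not_adj_self (x : Fin 275) : ¬ adjM x x := by
  intro h
  have h32 : Cfsg.sqNorm (McLModel.vec x : GolayPt → ℤ) = 32 := (McLModel.vec_mem x).1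
  have e : Cfsg.dotInt (McLModel.vec x : GolayPt → ℤ) (McLModel.vec x) = 32 := by
    rw [← h32]; simp [Cfsg.dotInt, Cfsg.sqNorm, sq]
  rw [adjM, e] at h
  omega

theorem adj_sub (i i' : Fin 112) : adjM (subP i) (subP i') ↔ adjB i.val i'.val = true := by
  have h := List.all_eq_true.1 (List.all_eq_true.1 dots_near i.val (List.mem_range.2 i.isLt)) i'.val
    (List.mem_range.2 i'.isLt)
  simp only [beq_iff_eq] at h
  rw [adjM_key, ← h]
  exact beq_iff_eq.symm

theorem adj_nb_sub (j : Fin 162) (i : Fin 112) : adjM (nbP j) (subP i) ↔ inS j.val i.val = true := by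
  have h := List.all_eq_true.1 (List.all_eq_true.1 dots_far j.val (List.mem_range.2 j.isLt)) i.val
    (List.mem_range.2 i.isLt)
  simp only [beq_iff_eq] at h
  rw [adjM_key, ← h]
  exact beq_iff_eq.symm

/-- The automorphisms of the graph on 275 vectors. -/
def autM : Subgroup (Equiv.Perm (Fin 275)) where
  carrier := {p | ∀ x y, adjM (p x) (p y) ↔ adjM x y}
  one_mem' := fun _ _ => Iff.rfl
  mul_mem' := by
    intro g h hg hh x y
    exact (hg (h x) (h y)).trans (hh x y)
  inv_mem' := by
    intro g hg x y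
    have := hg (g⁻¹ x) (g⁻¹ y)
    rw [show g (g⁻¹ x) = x from g.apply_symm_apply x, show g (g⁻¹ y) = y from g.apply_symm_apply y] at this
    exact this.symm

theorem grp_autM : grp275 ≤ autM := by
  intro p hp x y
  obtain ⟨g, rfl⟩ := (grp_eq.1.le hp : p ∈ phi.range)
  show Cfsg.dotInt _ _ = 8 ↔ Cfsg.dotInt _ _ = 8
  rw [phi_vec, phi_vec, dot_smul]

theorem restrict {g : Equiv.Perm (Fin 275)} (hg : g ∈ autM) (h0 : g pt0 = pt0) :
    ∃ r ∈ aut, ∀ i, g (subP i) = subP (r i) := by
  have h : ∀ i, ∃ i', g (subP i) = subP i' := fun i => by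
    have ha : adjM pt0 (g (subP i)) := by
      have := (hg pt0 (subP i)).2 (adj_pt0_sub i)
      rwa [h0] at this
    rcases three_kinds (g (subP i)) with e | e | ⟨j, e⟩
    · exact absurd (e ▸ ha) (not_adj_self pt0)
    · exact e
    · exact absurd (e ▸ ha) (not_adj_pt0_nb j)
  choose r hr using h
  have hinj : Function.Injective r := fun i i' e => subP_inj (g.injective (by rw [hr, hr, e]))
  refine ⟨Equiv.ofBijective r ((Finite.injective_iff_bijective).1 hinj), fun i i' => ?_, hr⟩
  rw [Bool.eq_iff_iff, ← adj_sub, ← adj_sub]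
  show adjM (subP (r i)) (subP (r i')) ↔ _
  rw [← hr, ← hr]
  exact hg _ _

theorem row_unique {j j' : Fin 162} (h : ∀ i : Fin 112, inS j.val i.val = inS j'.val i.val) : j = j' := by
  by_contra hne
  have key : ∀ a b : Fin 162, b.val < a.val → (∀ i : Fin 112, inS a.val i.val = inS b.val i.val) → False := by
    intro a b hlt h
    have hd := List.all_eq_true.1 (List.all_eq_true.1 rows_distinct.1 a.val (List.mem_range.2 a.isLt)) b.val
      (List.mem_range.2 hlt)
    refine bne_iff_ne.1 hd (Nat.eq_of_testBit_eq fun i => ?_)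
    by_cases hi : i < 112
    · exact h ⟨i, hi⟩
    · have hb : ∀ c : ℕ, (rowMasks.getD c 0).testBit i = false := by
        intro c
        refine Nat.testBit_lt_two_pow (lt_of_lt_of_le ?_ (Nat.pow_le_pow_right (by norm_num) (not_lt.1 hi)))
        by_cases hc : c < rowMasks.length
        · rw [List.getD_eq_getElem _ _ hc]
          exact Nat.le_of_ble_eq_true (List.all_eq_true.1 rows_distinct.2 _ (List.getElem_mem hc))
        · rw [List.getD_eq_default _ _ (not_lt.1 hc)]
          exact Nat.two_pow_pos _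
      rw [hb, hb]
  rcases lt_trichotomy j.val j'.val with h1 | h1 | h1
  · exact key j' j h1 fun i => (h i).symm
  · exact hne (Fin.ext h1)
  · exact key j j' h1 h

theorem ext_near {g g' : Equiv.Perm (Fin 275)} (hg : g ∈ autM) (hg' : g' ∈ autM) (h0 : g pt0 = pt0)
    (h0' : g' pt0 = pt0) (h : ∀ i, g (subP i) = g' (subP i)) : g = g' := by
  have hk : g'⁻¹ * g ∈ autM := mul_mem (inv_mem hg') hg
  set k := g'⁻¹ * g with hkdef
  suffices hk1 : k = 1 by
    rw [hkdef, inv_mul_eq_one] at hk1
    exact hk1.symm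
  have k0 : k pt0 = pt0 := by
    rw [hkdef, Equiv.Perm.mul_apply, h0]
    exact g'.symm_apply_eq.2 h0'.symm
  have ks : ∀ i, k (subP i) = subP i := fun i => by
    rw [hkdef, Equiv.Perm.mul_apply, h]
    exact g'.symm_apply_apply _
  refine Equiv.ext fun x => ?_
  rcases three_kinds x with rfl | ⟨i, rfl⟩ | ⟨j, rfl⟩
  · exact k0
  · exact ks i
  · rcases three_kinds (k (nbP j)) with e | ⟨i, e⟩ | ⟨j', e⟩
    · exact absurd (k.injective (e.trans k0.symm)) fun e => by
        have := congrArg (fun x : Fin 275 => cls x.val) e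
        rw [cls_nb, cls_pt0] at this
        omega
    · exact absurd (k.injective (e.trans (ks i).symm)) fun e => by
        have := congrArg (fun x : Fin 275 => cls x.val) e
        rw [cls_nb, cls_sub] at this
        omega
    · have : j' = j := row_unique fun i => by
        rw [Bool.eq_iff_iff, ← adj_nb_sub, ← adj_nb_sub, ← e, ← hk (nbP j) (subP i), ks]
      rw [e, this]
      rfl

theorem lift {q : Equiv.Perm (Fin 112)} (hq : q ∈ gA) : ∃ m ∈ stab0, ∀ i, m (subP i) = subP (q i) := by
  obtain ⟨g, rfl⟩ := rho_range.ge hq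
  exact ⟨g.1, gH_le g.2, (gH_rest g.2).choose_spec⟩

theorem descend {m : Equiv.Perm (Fin 275)} (hm : m ∈ stab0) : ∃ q ∈ gA, ∀ i, m (subP i) = subP (q i) := by
  have h : m ∈ gH := range_facts.2.2.2 ▸ hm
  exact ⟨rho ⟨m, h⟩, rho_range.le ⟨_, rfl⟩, (gH_rest h).choose_spec⟩

theorem row_image {q : Equiv.Perm (Fin 112)} {m : Equiv.Perm (Fin 275)} (hm : m ∈ stab0)
    (hmq : ∀ i, m (subP i) = subP (q i)) (j : Fin 162) :
    ∃ j' : Fin 162, m (nbP j) = nbP j' ∧ ∀ i : Fin 112, inS j'.val (q i).val = inS j.val i.val := by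
  have ha := grp_autM hm.1
  have h0 : m pt0 = pt0 := hm.2
  rcases three_kinds (m (nbP j)) with e | ⟨i, e⟩ | ⟨j', e⟩
  · exact absurd (m.injective (e.trans h0.symm)) fun e => by
      have := congrArg (fun x : Fin 275 => cls x.val) e
      rw [cls_nb, cls_pt0] at this
      omega
  · have := (ha pt0 (nbP j)).1 (by rw [h0, e]; exact adj_pt0_sub i)
    exact absurd this (not_adj_pt0_nb j)
  · exact ⟨j', e, fun i => by rw [Bool.eq_iff_iff, ← adj_nb_sub, ← adj_nb_sub, ← hmq, ← e]; exact ha _ _⟩

theorem rows_closed {q : Equiv.Perm (Fin 112)} (hq : q ∈ gA) (j : Fin 162) :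
    ∃ j' : Fin 162, ∀ i : Fin 112, inS j'.val (q i).val = inS j.val i.val := by
  obtain ⟨m, hm, hmq⟩ := lift hq
  obtain ⟨j', -, h⟩ := row_image hm hmq j
  exact ⟨j', h⟩

theorem rows_reach (j : Fin 162) : ∃ q ∈ gA, ∀ i : Fin 112, inS j.val (q i).val = inS 0 i.val := by
  let P : ℕ → Prop := fun n => ∃ q ∈ gA, ∀ i : Fin 112, inS n (q i).val = inS 0 i.val
  have hord := reach_rows_order.1
  simp only [Bool.and_eq_true, List.all_eq_true, List.mem_range, Bool.or_eq_true, beq_iff_eq, List.any_eq_true] at hord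
  obtain ⟨hord, hall⟩ := hord
  have hk : ∀ k < 161, P (reachRows.getD k (0, 0, 0)).1 := by
    intro k
    induction k using Nat.strong_induction_on with
    | _ k ih =>
      intro hk
      obtain ⟨hl, hp⟩ := hord k hk
      set e := reachRows.getD k (0, 0, 0) with he
      have hmem : e ∈ reachRows := by
        rw [he, List.getD_eq_getElem _ _ (reach_rows_order.2.symm ▸ hk)]; exact List.getElem_mem _
      have hP : P e.2.1 := by
        rcases hp with hp | ⟨k', hk', hp⟩
        · exact ⟨1, one_mem _, fun i => by rw [hp]; rfl⟩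
        · exact hp ▸ ih k' hk' (by omega)
      have hs := List.all_eq_true.1 (List.all_eq_true.1 rows_step e.2.2
        (List.mem_range.2 (Nat.le_of_ble_eq_true hl))) e hmem
      simp only [beq_self_eq_true, Bool.not_true, Bool.false_or, Bool.and_eq_true, List.all_eq_true,
        List.mem_range, beq_iff_eq] at hs
      have hl' : e.2.2 < 2 := Nat.le_of_ble_eq_true hl
      obtain ⟨q, hq, hqi⟩ := hP
      refine ⟨qP e.2.2 * q, mul_mem (qP_mem (by omega)) hq, fun i => ?_⟩
      rw [← hqi i, ← hs.2 (q i).val (q i).isLt, Equiv.Perm.mul_apply, qP_eq, perm_apply (qTab_valid (by omega))]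
  rcases hall j.val j.isLt with h | ⟨e, he, hej⟩
  · exact ⟨1, one_mem _, fun i => by rw [h]; rfl⟩
  · obtain ⟨k, hk', rfl⟩ := List.getElem_of_mem he
    have := hk k (reach_rows_order.2 ▸ hk')
    rw [List.getD_eq_getElem _ _ hk'] at this
    exact hej ▸ this

/-- The common neighbours of two distant points among the 112. -/
def inter (j j' : ℕ) : ℕ := (Finset.univ.filter fun i : Fin 112 => inS j i.val && inS j' i.val).card

theorem inter_list (j j' : ℕ) : inter j j' = ((List.range 112).filter fun i => inS j i && inS j' i).length := by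
  have e : inter j j' = ((Finset.range 112).filter fun i => inS j i && inS j' i).card := by
    rw [inter, Finset.card_filter, Finset.card_filter]
    exact Fin.sum_univ_eq_sum_range (fun i => if inS j i && inS j' i then 1 else 0) 112
  rw [e]
  show ((List.range 112).filter fun i => decide ((inS j i && inS j' i) = true)).length = _
  congr 1
  exact List.filter_congr fun i _ => Bool.decide_eq_true

theorem inter_move {q : Equiv.Perm (Fin 112)} {j j' a a' : ℕ} (h : ∀ i : Fin 112, inS a (q i).val = inS j i.val)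
    (h' : ∀ i : Fin 112, inS a' (q i).val = inS j' i.val) : inter a a' = inter j j' := by
  refine (Finset.card_equiv q fun i => ?_).symm
  simp only [Finset.mem_filter, Finset.mem_univ, true_and, h, h']

theorem to_zero (j j' : Fin 162) : ∃ j'' : Fin 162, inter j.val j'.val = inter 0 j''.val ∧
    (adjM (nbP j) (nbP j') ↔ adjM (nbP ⟨0, by norm_num⟩) (nbP j'')) ∧ (j = j' ↔ j''.val = 0) := by
  obtain ⟨q, hq, hqi⟩ := rows_reach j
  obtain ⟨m, hm, hmq⟩ := lift hq
  have hminv : ∀ i, m⁻¹ (subP i) = subP (q⁻¹ i) := fun i =>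
    m.symm_apply_eq.2 (by rw [hmq, show q (q⁻¹ i) = i from q.apply_symm_apply i])
  obtain ⟨j₀, e₀, h₀⟩ := row_image (inv_mem hm) hminv j
  obtain ⟨j'', e'', h''⟩ := row_image (inv_mem hm) hminv j'
  have hj0 : j₀ = ⟨0, by norm_num⟩ := row_unique fun i => by
    have := h₀ (q i)
    rw [show q⁻¹ (q i) = i from q.symm_apply_apply i, hqi] at this
    exact this
  subst hj0
  refine ⟨j'', (inter_move h₀ h'').symm, ?_, ?_⟩
  · rw [← e₀, ← e'']
    exact ((grp_autM (inv_mem hm.1)) _ _).symm
  · constructor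
    · intro e
      rw [← e, e₀] at e''
      have := congrArg (fun x : Fin 275 => cls x.val) e''
      simp only [cls_nb] at this
      omega
    · intro e
      have hj : j'' = ⟨0, by norm_num⟩ := Fin.ext e
      rw [hj, ← e₀] at e''
      have := congrArg (fun x : Fin 275 => cls x.val) ((m⁻¹).injective e'')
      simp only [cls_nb] at this
      exact Fin.ext (by omega)

theorem adj_nb (j j' : Fin 162) : adjM (nbP j) (nbP j') ↔ inter j.val j'.val = 20 := by
  obtain ⟨j'', h1, h2, -⟩ := to_zero j j'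
  rw [h1, h2, inter_list, adjM_key]
  have h := List.all_eq_true.1 dots_row0 j''.val (List.mem_range.2 j''.isLt)
  simp only [beq_iff_eq] at h
  refine (beq_iff_eq (b := (8 : ℤ))).symm.trans ?_
  show (dotK (key (nbPt 0)) (key (nbPt j''.val)) == 8) = true ↔ _
  rw [h]
  exact beq_iff_eq

theorem inter_values {j j' : Fin 162} (hne : j ≠ j') : inter j.val j'.val = 20 ∨ inter j.val j'.val = 32 := by
  obtain ⟨j'', h1, -, h3⟩ := to_zero j j'
  have h := List.all_eq_true.1 row0_counts.1 j''.val (List.mem_range.2 j''.isLt)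
  simp only [Bool.or_eq_true, beq_iff_eq, ← inter_list] at h
  rw [h1]
  exact h.resolve_left fun e => hne (h3.2 e)

theorem count20 (j : Fin 162) : (Finset.univ.filter fun j' : Fin 162 => inter j.val j'.val = 20).card = 56 := by
  have h0 : (Finset.univ.filter fun j' : Fin 162 => inter 0 j'.val = 20).card = 56 := by
    have e : (Finset.univ.filter fun j' : Fin 162 => inter 0 j'.val = 20).card =
        ((Finset.range 162).filter fun j' => inter 0 j' = 20).card := by
      rw [Finset.card_filter, Finset.card_filter]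
      exact Fin.sum_univ_eq_sum_range (fun j' => if inter 0 j' = 20 then 1 else 0) 162
    rw [e]
    refine Eq.trans ?_ row0_counts.2
    rw [show ((Finset.range 162).filter fun j' => inter 0 j' = 20).card =
      ((List.range 162).filter fun j' => decide (inter 0 j' = 20)).length from rfl]
    congr 1
  obtain ⟨q, hq, hqi⟩ := rows_reach j
  choose σ hσ using fun j' => rows_closed hq j'
  have hinj : Function.Injective σ := fun a b e => row_unique fun i => by rw [← hσ a, ← hσ b, e]
  rw [← h0]
  refine (Finset.card_equiv (Equiv.ofBijective σ ((Finite.injective_iff_bijective).1 hinj)) fun j' => ?_).symm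
  simp only [Finset.mem_filter, Finset.mem_univ, true_and, Equiv.ofBijective_apply]
  rw [inter_move hqi (hσ j')]

end Cfsg.Lib.McLModel.RankThree
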