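import Cfsg.Agent.McLModel.RankThree.Quad

/-!
A subgroup of index 112 of the group on 112 points fixes a point.
-/

set_option autoImplicit false
set_option maxHeartbeats 1000000

namespace Cfsg.Lib.McLModel.RankThree

open Cfsg.Lib.PermCert Cfsg.Lib.CosetCert Cfsg.Lib.McLModel.PtStab MulAction

local instance factThree : Fact (Nat.Prime 3) := ⟨Nat.prime_three⟩

theorem card_gA : Nat.card gA = 3265920 := range_facts.2.1

/-- The stabiliser of the first point. -/
noncomputable def K : Subgroup gA := stabilizer gA o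

theorem mem_K {g : gA} : g ∈ K ↔ g.1 o = o := Iff.rfl

theorem orbit_univ : orbit gA o = Set.univ := Set.eq_univ_of_forall fun x => by
  obtain ⟨q, hq, e⟩ := gA_reach x
  exact ⟨⟨q, hq⟩, e⟩

theorem card_K : Nat.card K = 29160 := by
  have h := Nat.card_congr (orbitProdStabilizerEquivGroup gA o)
  rw [Nat.card_prod, Nat.card_coe_set_eq, orbit_univ, Set.ncard_univ, Nat.card_fin, card_gA] at h
  show Nat.card (stabilizer gA o) = 29160
  omega

theorem card_orbit_split (S : Subgroup gA) (y : Fin 112) :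
    Nat.card S = (orbit S y).ncard * Nat.card ↥(S ⊓ stabilizer gA y) := by
  have h := Nat.card_congr (orbitProdStabilizerEquivGroup S y)
  rw [Nat.card_prod, Nat.card_coe_set_eq] at h
  have e : Nat.card (stabilizer S y) = Nat.card ↥(S ⊓ stabilizer gA y) := Nat.card_congr
    { toFun := fun g => ⟨g.1.1, g.1.2, g.2⟩
      invFun := fun g => ⟨⟨g.1, g.2.1⟩, g.2.2⟩
      left_inv := fun _ => rfl
      right_inv := fun _ => rfl }
  rw [← h, e]

/-- The neighbours of the first point. -/
def near : Finset (Fin 112) := Finset.univ.filter fun x => adjB 0 x.val = true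

/-- The points distant from the first point. -/
def far : Finset (Fin 112) := Finset.univ.filter fun x => x ≠ o ∧ adjB 0 x.val = false

theorem near_card : near.card = 30 ∧ far.card = 81 := by decide +kernel

theorem K_orbit (y0 : ℕ) (hy : y0 < 112) (st : List (ℕ × ℕ × ℕ))
    (hs : reachOK (fun g p => ap (fixTabs.getD g (0, 0)).1 p) 4 [y0] st = true)
    (x : Fin 112) (hx : x.val = y0 ∨ ∃ e ∈ st, e.1 = x.val) : ∃ g : K, g • (⟨y0, hy⟩ : Fin 112) = x := by
  let P : ℕ → Prop := fun n => ∃ g : K, (g • (⟨y0, hy⟩ : Fin 112)).val = n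
  have hP : ∀ e ∈ st, P e.1 := reach_sound P (fun l hl p ⟨g, e⟩ => by
      have h := List.all_eq_true.1 fix_ok l (List.mem_range.2 hl)
      simp only [Bool.and_eq_true, beq_iff_eq] at h
      obtain ⟨hv, hm⟩ := word_mem h.1
      let k : K := ⟨⟨_, hm⟩, Fin.ext ((perm_apply hv o).trans h.2)⟩
      refine ⟨k * g, ?_⟩
      rw [mul_smul]
      show (perm 112 (fixTabs.getD l (0, 0)) (g • (⟨y0, hy⟩ : Fin 112))).val = _
      rw [perm_apply hv, e]) _ _
    (fun n hn => by rw [List.mem_singleton] at hn; exact ⟨1, by rw [one_smul]; exact hn.symm⟩) hs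
  rcases hx with hx | ⟨e, he, hx⟩
  · exact ⟨1, by rw [one_smul]; exact Fin.ext hx.symm⟩
  · obtain ⟨g, hg⟩ := hP e he
    exact ⟨g, Fin.ext (hg.trans hx)⟩

theorem K_adj (g : K) (x : Fin 112) : adjB 0 (g • x).val = adjB 0 x.val := by
  have := gA_aut g.1.2 o x
  rw [mem_K.1 g.2] at this
  exact this

theorem K_fix_iff (g : K) (x : Fin 112) : g • x = o ↔ x = o := by
  have h : g • o = o := g.2
  exact ⟨fun e => (smul_left_cancel g (e.trans h.symm)), fun e => e ▸ h⟩

theorem orbit_near {y : Fin 112} (hy : adjB 0 y.val = true) : orbit K y = (near : Set (Fin 112)) := by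
  obtain ⟨hr, hall, h0, hlt⟩ := reach_near
  have hmem : ∀ x : Fin 112, adjB 0 x.val = true → ∃ g : K, g • (⟨y0Nat, hlt⟩ : Fin 112) = x := fun x hx => by
    refine K_orbit _ hlt _ hr x ?_
    have h := List.all_eq_true.1 hall x.val (List.mem_range.2 x.isLt)
    simpa [hx] using h
  ext x
  simp only [near, Finset.coe_filter, Finset.mem_univ, true_and, Set.mem_ofPred_eq]
  constructor
  · rintro ⟨g, rfl⟩
    exact (K_adj g y).trans hy
  · intro hx
    obtain ⟨g, hg⟩ := hmem x hx
    obtain ⟨k, hk⟩ := hmem y hy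
    exact ⟨g * k⁻¹, show (g * k⁻¹) • y = x by rw [mul_smul, ← hk, inv_smul_smul, hg]⟩

theorem orbit_far {y : Fin 112} (hy0 : y ≠ o) (hy : adjB 0 y.val = false) : orbit K y = (far : Set (Fin 112)) := by
  obtain ⟨hr, hall, h0, h1, hlt⟩ := reach_far
  have hmem : ∀ x : Fin 112, x ≠ o → adjB 0 x.val = false → ∃ g : K, g • (⟨z0Nat, hlt⟩ : Fin 112) = x :=
    fun x hx0 hx => by
    refine K_orbit _ hlt _ hr x ?_
    have h := List.all_eq_true.1 hall x.val (List.mem_range.2 x.isLt)
    have hx0' : x.val ≠ 0 := fun e => hx0 (Fin.ext e)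
    simpa [hx, hx0'] using h
  ext x
  simp only [far, Finset.coe_filter, Finset.mem_univ, true_and, Set.mem_ofPred_eq]
  constructor
  · rintro ⟨g, rfl⟩
    exact ⟨fun e => hy0 ((K_fix_iff g y).1 e), (K_adj g y).trans hy⟩
  · rintro ⟨hx0, hx⟩
    obtain ⟨g, hg⟩ := hmem x hx0 hx
    obtain ⟨k, hk⟩ := hmem y hy0 hy
    exact ⟨g * k⁻¹, show (g * k⁻¹) • y = x by rw [mul_smul, ← hk, inv_smul_smul, hg]⟩

theorem le_K {H P : Subgroup gA} (hH : Nat.card H = 29160) (hP : Nat.card P = 729) (hPH : P ≤ H) (hPK : P ≤ K) :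
    H ≤ K := by
  have hs := card_orbit_split H o
  set n := (orbit H o).ncard
  set m := Nat.card ↥(H ⊓ stabilizer gA o)
  have hm : 729 ≤ m := hP ▸ Subgroup.card_le_of_le (le_inf hPH hPK)
  have hn : n ≤ 40 := by
    by_contra hc
    have : 41 * 729 ≤ n * m := Nat.mul_le_mul (by omega) hm
    omega
  have hK := card_K
  by_contra hne
  obtain ⟨h, hh, hk⟩ := SetLike.not_le_iff_exists.1 hne
  have hno : ∀ y ∈ orbit H o, y ≠ o → adjB 0 y.val = true := by
    intro y hy hy0
    by_contra hadj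
    rw [Bool.not_eq_true] at hadj
    have e1 := card_orbit_split K y
    rw [orbit_far hy0 hadj, Set.ncard_coe_finset, near_card.2] at e1
    have e2 := card_orbit_split P y
    rw [hP] at e2
    have hsub : orbit P y ⊆ orbit H o := by
      rintro _ ⟨g, rfl⟩
      obtain ⟨k, rfl⟩ := hy
      exact ⟨(⟨g.1, hPH g.2⟩ : H) * k, mul_smul _ k o⟩
    have o1 : (orbit P y).ncard ≤ n := Set.ncard_le_ncard hsub (Set.toFinite _)
    have d1 : Nat.card ↥(P ⊓ stabilizer gA y) ∣ 729 := hP ▸ Subgroup.card_dvd_of_le inf_le_left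
    have d2 : Nat.card ↥(P ⊓ stabilizer gA y) ∣ Nat.card ↥(K ⊓ stabilizer gA y) :=
      Subgroup.card_dvd_of_le (inf_le_inf_right _ hPK)
    rw [show Nat.card ↥(K ⊓ stabilizer gA y) = 360 by omega] at d2
    have h9 : Nat.card ↥(P ⊓ stabilizer gA y) ≤ 9 := Nat.le_of_dvd (by norm_num) (Nat.dvd_gcd d1 d2)
    have := Nat.mul_le_mul (o1.trans hn) h9
    omega
  set y : Fin 112 := (⟨h, hh⟩ : H) • o with hydef
  have hy : y ∈ orbit H o := mem_orbit o _
  have hyo : y ≠ o := hk
  have hadj := hno y hy hyo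
  have hn1 : 2 ≤ n := (Set.one_lt_ncard (Set.toFinite _)).2 ⟨o, mem_orbit_self o, y, hy, fun e => hyo e.symm⟩
  have hn4 : n ≤ 4 := by
    by_contra hc
    have ht := List.all_eq_true.1 tri_ok y.val (List.mem_range.2 y.isLt)
    simp only [hadj, Bool.not_true, Bool.false_or, List.all_eq_true, List.mem_range] at ht
    obtain ⟨m', hm', hne'⟩ : ∃ m' ∈ orbit H o, m' ≠ o ∧ m' ≠ y := by
      by_contra hcon
      push Not at hcon
      have : orbit H o ⊆ {o, y} := fun z hz => by
        by_cases hz0 : z = o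
        · exact Or.inl hz0
        · exact Or.inr (hcon z hz hz0)
      have := (Set.ncard_le_ncard this (Set.toFinite _)).trans (Set.ncard_insert_le _ _)
      rw [Set.ncard_singleton] at this
      omega
    have hclique : ∀ a ∈ orbit H o, ∀ b ∈ orbit H o, a ≠ b → adjB a.val b.val = true := by
      rintro _ ⟨k, rfl⟩ b hb hab
      have hb' : k⁻¹ • b ∈ orbit H o := mem_orbit_of_mem_orbit _ hb
      have := hno _ hb' (fun e => hab (by simp only; rw [← e, smul_inv_smul]))
      have h2 := gA_aut k.1.2 o (k⁻¹ • b)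
      have h3 := h2.trans this
      rwa [show k.1.1 (k⁻¹ • b) = b from smul_inv_smul k b] at h3
    have ht' := ht m'.val m'.isLt
    simp only [hno m' hm' hne'.1, hclique y hy m' hm' (fun e => hne'.2 e.symm), Bool.and_self, Bool.not_true,
      Bool.false_or, List.any_eq_true, List.mem_range, triOK, Bool.and_eq_true, List.all_eq_true, beq_iff_eq,
      Bool.or_eq_true] at ht'
    obtain ⟨w, hw, -, hall⟩ := ht'
    have hsub : orbit H o ⊆ ({o, y, m', ⟨w, hw⟩} : Set (Fin 112)) := by
      intro z hz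
      simp only [Set.mem_insert_iff, Set.mem_singleton_iff]
      by_cases hz0 : z = o
      · exact Or.inl hz0
      by_cases hzy : z = y
      · exact Or.inr (Or.inl hzy)
      rcases hall z.val z.isLt with h | h
      · simp [hno z hz hz0] at h
      · rcases h.1.1 with (h | h) | h
        · simp [hclique y hy z hz (fun e => hzy e.symm)] at h
        · exact Or.inr (Or.inr (Or.inl (Fin.ext h)))
        · exact Or.inr (Or.inr (Or.inr (Fin.ext h)))
    have h4 := Set.ncard_le_ncard hsub (Set.toFinite _)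
    have i1 := Set.ncard_insert_le o ({y, m', ⟨w, hw⟩} : Set (Fin 112))
    have i2 := Set.ncard_insert_le y ({m', ⟨w, hw⟩} : Set (Fin 112))
    have i3 := Set.ncard_insert_le m' ({⟨w, hw⟩} : Set (Fin 112))
    rw [Set.ncard_singleton] at i3
    omega
  have hm2 : 7290 ≤ m := by
    by_contra hc
    have := Nat.mul_le_mul hn4 (show m ≤ 7289 by omega)
    omega
  set S := H ⊓ stabilizer gA o
  have hsub : orbit S y ⊆ orbit H o \ {o} := by
    rintro _ ⟨g, rfl⟩
    refine ⟨⟨(⟨g.1, g.2.1⟩ : H) * ⟨h, hh⟩, mul_smul _ _ o⟩, fun e => hyo ?_⟩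
    have hg : g • o = o := g.2.2
    exact smul_left_cancel g ((Set.mem_singleton_iff.1 e).trans hg.symm)
  have e1 := card_orbit_split S y
  have o1 : (orbit S y).ncard ≤ 3 := by
    refine (Set.ncard_le_ncard hsub (Set.toFinite _)).trans ?_
    rw [Set.ncard_sdiff_singleton_of_mem (mem_orbit_self o)]
    omega
  have e2 := card_orbit_split K y
  rw [orbit_near hadj, Set.ncard_coe_finset, near_card.1] at e2
  have h972 : Nat.card ↥(S ⊓ stabilizer gA y) ≤ 972 := by
    have : Nat.card ↥(S ⊓ stabilizer gA y) ≤ Nat.card ↥(K ⊓ stabilizer gA y) :=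
      Subgroup.card_le_of_le (inf_le_inf_right (stabilizer gA y) (inf_le_right : S ≤ K))
    omega
  have h3 := Nat.mul_le_mul o1 h972
  have e1' : m = (orbit S y).ncard * Nat.card ↥(S ⊓ stabilizer gA y) := e1
  omega

theorem index_point (H : Subgroup gA) (hH : H.index = 112) : ∃ g : gA, ∀ h : gA, h ∈ H ↔ g⁻¹ * h * g ∈ K := by
  have hc : Nat.card H = 29160 := by
    have := H.card_mul_index
    rw [hH, card_gA] at this
    omega
  obtain ⟨P₀, hP₀⟩ := Sylow.exists_subgroup_card_pow_prime 3 (G := ↥H) (n := 6) (hc ▸ by norm_num)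
  obtain ⟨Q₀, hQ₀⟩ := Sylow.exists_subgroup_card_pow_prime 3 (G := ↥K) (n := 6) (card_K ▸ by norm_num)
  have hfac : (Nat.card gA).factorization 3 = 6 := by
    rw [card_gA, show (3265920 : ℕ) = 3 ^ 6 * 4480 by norm_num, Nat.factorization_mul (by norm_num) (by norm_num),
      Finsupp.add_apply, Nat.Prime.factorization_pow Nat.prime_three, Finsupp.single_eq_same,
      Nat.factorization_eq_zero_of_not_dvd (by norm_num)]
  have cP : Nat.card ↥(P₀.map H.subtype) = 3 ^ 6 := by
    rw [Subgroup.card_map_of_injective H.subtype_injective, hP₀]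
  have cQ : Nat.card ↥(Q₀.map K.subtype) = 3 ^ 6 := by
    rw [Subgroup.card_map_of_injective K.subtype_injective, hQ₀]
  obtain ⟨g, hg⟩ := exists_smul_eq gA (Sylow.ofCard (Q₀.map K.subtype) (by rw [cQ, hfac]))
    (Sylow.ofCard (P₀.map H.subtype) (by rw [cP, hfac]))
  have hg' : (Q₀.map K.subtype).map (MulAut.conj g).toMonoidHom = P₀.map H.subtype :=
    congrArg (fun P : Sylow 3 gA => (P : Subgroup gA)) hg
  let H' : Subgroup gA := H.map (MulAut.conj g⁻¹).toMonoidHom
  have hH' : Nat.card H' = 29160 := by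
    rw [Subgroup.card_map_of_injective (MulAut.conj g⁻¹).injective, hc]
  have hle : H' ≤ K := by
    refine le_K hH' (P := Q₀.map K.subtype) (cQ.trans (by norm_num)) ?_ (Subgroup.map_subtype_le Q₀)
    intro q hq
    have hm : g * q * g⁻¹ ∈ H := Subgroup.map_subtype_le P₀ (hg' ▸ ⟨q, hq, rfl⟩)
    exact ⟨_, hm, by simp [mul_assoc]⟩
  have heq : H' = K := Subgroup.eq_of_le_of_card_ge hle (by rw [card_K, hH'])
  refine ⟨g, fun h => ?_⟩
  rw [← heq]
  constructor
  · exact fun hh => ⟨h, hh, by simp⟩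
  · rintro ⟨h', hh', e⟩
    have : h' = h := by simpa using e
    exact this ▸ hh'

end Cfsg.Lib.McLModel.RankThree
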