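import Cfsg.Agent.McLModel.RankThree.Graph
import Cfsg.Agent.McLModel.RankThree.Hemi
import Cfsg.Agent.McLModel.RankThree.Model
import Cfsg.Agent.McLModel.RankThree.PointClass

/-!
A group of degree 275 with point stabiliser the simple unitary group in dimension four over nine elements and
suborbits of sizes 112 and 162 is the group of the 275 vectors.
-/

set_option autoImplicit false
set_option maxHeartbeats 1000000
set_option linter.style.haveILetI false

namespace Cfsg.Lib.McLModel.RankThree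

open Cfsg.Lib.PermCert Cfsg.Lib.CosetCert Cfsg.Lib.McLModel.PtStab MulAction

universe u

local instance finiteCo0Inst5 : Finite Cfsg.Co0 := Cfsg.Lib.Leech.finite_co0

theorem grp_simple : IsSimpleGroup grp275 := by
  haveI : IsSimpleGroup mclGrp := mclGrp_isMcL.1
  have hg : phi.range = (grp275 : Subgroup (Equiv.Perm (Fin 275))) := grp_eq.1.symm
  let e1 : phi.range ≃* grp275 := MulEquiv.subgroupCongr hg
  exact ((MonoidHom.ofInjective phi_injective).trans e1).symm.isSimpleGroup

theorem grp_trans (x : Fin 275) : ∃ m ∈ grp275, m pt0 = x := by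
  letI : MulAction grp275 (Fin 275) := MulAction.compHom (Fin 275) grp275.subtype
  have h := Nat.card_congr (MulAction.orbitProdStabilizerEquivGroup grp275 pt0)
  have e : MulAction.stabilizer grp275 pt0 ≃ stab0 :=
    { toFun := fun g => ⟨g.1.1, g.1.2, g.2⟩
      invFun := fun g => ⟨⟨g.1, g.2.1⟩, g.2.2⟩
      left_inv := fun _ => rfl
      right_inv := fun _ => rfl }
  rw [Nat.card_prod, Nat.card_coe_set_eq, Nat.card_congr e, card_stab0,
    show Nat.card grp275 = 898128000 from grp_eq.2] at h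
  have hu : MulAction.orbit grp275 pt0 = Set.univ :=
    Set.eq_of_subset_of_ncard_le (Set.subset_univ _) (by rw [Set.ncard_univ, Nat.card_fin]; omega) (Set.toFinite _)
  obtain ⟨g, hg⟩ := (hu.ge (Set.mem_univ x) : x ∈ MulAction.orbit grp275 pt0)
  exact ⟨g.1, g.2, hg⟩

/-- A group of automorphisms of the graph with the order and point stabiliser of the model is the model. -/
theorem model_eq (T : Subgroup (Equiv.Perm (Fin 275))) (hA : T ≤ autM) (hc : Nat.card T = 898128000)
    (htr : ∀ x, ∃ g ∈ T, g pt0 = x)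
    (hs : ∀ g ∈ T, g pt0 = pt0 → ∃ q ∈ gA, ∀ i, g (subP i) = subP (q i)) : T = grp275 := by
  have hle : T ⊓ stabilizer (Equiv.Perm (Fin 275)) pt0 ≤ stab0 := by
    rintro g ⟨hg, h0⟩
    obtain ⟨q, hq, hqi⟩ := hs g hg h0
    obtain ⟨m, hm, hmi⟩ := lift hq
    have : g = m := ext_near (hA hg) (grp_autM hm.1) h0 hm.2 fun i => by rw [hqi, hmi]
    exact this ▸ hm
  have hstab : stab0 ≤ T := by
    letI : MulAction T (Fin 275) := MulAction.compHom (Fin 275) T.subtype
    have h := Nat.card_congr (MulAction.orbitProdStabilizerEquivGroup T pt0)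
    have e : MulAction.stabilizer T pt0 ≃ ↥(T ⊓ stabilizer (Equiv.Perm (Fin 275)) pt0) :=
      { toFun := fun g => ⟨g.1.1, g.1.2, g.2⟩
        invFun := fun g => ⟨⟨g.1, g.2.1⟩, g.2.2⟩
        left_inv := fun _ => rfl
        right_inv := fun _ => rfl }
    have hu : MulAction.orbit T pt0 = Set.univ := Set.eq_univ_of_forall fun x => by
      obtain ⟨g, hg, e⟩ := htr x
      exact ⟨⟨g, hg⟩, e⟩
    rw [Nat.card_prod, Nat.card_coe_set_eq, hu, Set.ncard_univ, Nat.card_fin, Nat.card_congr e, hc] at h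
    have := Subgroup.eq_of_le_of_card_ge hle (by rw [card_stab0]; omega)
    exact this ▸ inf_le_left
  have hnorm : ∀ h ∈ autM, h pt0 = pt0 → ∀ s ∈ stab0, h * s * h⁻¹ ∈ stab0 := by
    intro h hh h0 s hs'
    obtain ⟨r, hr, hri⟩ := restrict hh h0
    obtain ⟨q, hq, hqi⟩ := descend hs'
    obtain ⟨m, hm, hmi⟩ := lift (conj_gA hr hq)
    have h0' : h⁻¹ pt0 = pt0 := h.symm_apply_eq.2 h0.symm
    have hs0 : s pt0 = pt0 := hs'.2
    have : h * s * h⁻¹ = m := ext_near (mul_mem (mul_mem hh (grp_autM hs'.1)) (inv_mem hh)) (grp_autM hm.1)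
      (by rw [Equiv.Perm.mul_apply, Equiv.Perm.mul_apply, h0', hs0, h0]) hm.2 fun i => by
      have : h⁻¹ (subP i) = subP (r⁻¹ i) := h.symm_apply_eq.2 (by rw [hri, show r (r⁻¹ i) = i from r.apply_symm_apply i])
      rw [Equiv.Perm.mul_apply, Equiv.Perm.mul_apply, this, hqi, hri, hmi]
      rfl
    exact this ▸ hm
  have hall : ∀ m ∈ grp275, ∀ s ∈ stab0, m * s * m⁻¹ ∈ T := by
    intro m hm s hs'
    obtain ⟨g, hg, e⟩ := htr (m pt0)
    have hh : g⁻¹ * m ∈ autM := mul_mem (inv_mem (hA hg)) (grp_autM hm)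
    have h0 : (g⁻¹ * m) pt0 = pt0 := g.symm_apply_eq.2 e.symm
    have h2 := mul_mem (mul_mem hg (hstab (hnorm _ hh h0 s hs'))) (inv_mem hg)
    have e2 : g * (g⁻¹ * m * s * (g⁻¹ * m)⁻¹) * g⁻¹ = m * s * m⁻¹ := by group
    exact e2 ▸ h2
  let s : Set grp275 := {g | (g : Equiv.Perm (Fin 275)) ∈ stab0}
  haveI := grp_simple
  have htop : Subgroup.normalClosure s = ⊤ := by
    rcases (inferInstance : (Subgroup.normalClosure s).Normal).eq_bot_or_eq_top with h | h
    · exfalso
      haveI : Nontrivial stab0 := (Finite.one_lt_card_iff_nontrivial).1 (by rw [card_stab0]; norm_num)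
      obtain ⟨g, hg⟩ := exists_ne (1 : stab0)
      refine hg (Subtype.ext ?_)
      have : (⟨g.1, g.2.1⟩ : grp275) ∈ Subgroup.normalClosure s := Subgroup.subset_normalClosure (by exact g.2)
      rw [h, Subgroup.mem_bot] at this
      exact congrArg (fun z : grp275 => z.1) this
    · exact h
  have hN : Subgroup.normalClosure s ≤ T.subgroupOf grp275 := by
    refine (Subgroup.closure_le _).2 fun x hx => ?_
    obtain ⟨a, ha, hax⟩ := Group.mem_conjugatesOfSet_iff.1 hx
    obtain ⟨c, rfl⟩ := isConj_iff.1 hax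
    exact hall c.1 c.2 a.1 ha
  rw [htop, top_le_iff, Subgroup.subgroupOf_eq_top] at hN
  exact (Subgroup.eq_of_le_of_card_ge hN (by rw [hc, show Nat.card grp275 = 898128000 from grp_eq.2])).symm

variable {Ω : Type u} [Fintype Ω] [DecidableEq Ω] {G : Subgroup (Equiv.Perm Ω)} {a b c : Ω}

/-- A labelling of the neighbours of a point by the 112 points of the model. -/
structure Label (G : Subgroup (Equiv.Perm Ω)) (a b : Ω) (β : Fin 112 → Ω) : Prop where
  inj : Function.Injective β
  adjA : ∀ i, (orbGraph G a b).Adj a (β i)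
  cover : ∀ x, (orbGraph G a b).Adj a x → ∃ i, x = β i
  adj : ∀ i j, (orbGraph G a b).Adj (β i) (β j) ↔ adjB i.val j.val = true
  lift : ∀ q ∈ gA, ∃ g : G, g • a = a ∧ ∀ i, g • β i = β (q i)
  descend : ∀ g : G, g • a = a → ∃ q ∈ gA, ∀ i, g • β i = β (q i)

theorem Label.twist {β : Fin 112 → Ω} (hβ : Label G a b β) {r : Equiv.Perm (Fin 112)} (hr : r ∈ aut) :
    Label G a b fun i => β (r i) := by
  refine ⟨fun i j e => r.injective (hβ.inj e), fun i => hβ.adjA _, fun x hx => ?_, fun i j => ?_, fun q hq => ?_,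
    fun g hg => ?_⟩
  · obtain ⟨i, rfl⟩ := hβ.cover x hx
    exact ⟨r⁻¹ i, congrArg β (r.apply_symm_apply i).symm⟩
  · rw [hβ.adj, hr i j]
  · obtain ⟨g, hg, hgi⟩ := hβ.lift _ (conj_gA hr hq)
    refine ⟨g, hg, fun i => (hgi (r i)).trans (congrArg β ?_)⟩
    simp [Equiv.Perm.mul_apply]
  · obtain ⟨q, hq, hqi⟩ := hβ.descend g hg
    refine ⟨r⁻¹ * q * r, by simpa using conj_gA (inv_mem hr) hq, fun i => (hqi (r i)).trans (congrArg β ?_)⟩
    simp [Equiv.Perm.mul_apply]

theorem exists_label (h : Setup G a b c) (φ : stabilizer G a ≃* gA) : ∃ β, Label G a b β := by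
  classical
  haveI := h.trans
  set Γ := orbGraph G a b with hΓ
  obtain ⟨g, hg⟩ := index_point ((stabilizer (stabilizer G a) b).map φ.toMonoidHom) (by
    rw [show φ.toMonoidHom = (φ : stabilizer G a →* gA) from rfl, Subgroup.index_map_equiv, index_stabilizer, h.hb])
  set b' := φ.symm g⁻¹ • b with hb'
  have hstab : ∀ k : stabilizer G a, k • b' = b' ↔ (φ k).1 o = o := by
    intro k
    rw [hb', ← mem_K]
    have : k • φ.symm g⁻¹ • b = φ.symm g⁻¹ • b ↔ φ.symm g * k * φ.symm g⁻¹ ∈ stabilizer (stabilizer G a) b := by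
      rw [mem_stabilizer_iff, mul_smul, mul_smul, map_inv]
      exact ⟨fun e => by rw [e, smul_inv_smul], fun e => eq_inv_smul_iff.2 e⟩
    rw [this]
    constructor
    · intro hk
      have := (hg _).1 ⟨_, hk, rfl⟩
      simpa [mul_assoc] using this
    · intro hk
      obtain ⟨k', hk', e⟩ := (hg (g * φ k * g⁻¹)).2 (by simpa [mul_assoc] using hk)
      have e' : φ k' = g * φ k * g⁻¹ := e
      have : k' = φ.symm g * k * φ.symm g⁻¹ := φ.injective (by simp [e'])
      exact this ▸ hk'
  choose q hq hqo using gA_reach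
  let β : Fin 112 → Ω := fun x => (φ.symm ⟨q x, hq x⟩ • b')
  have hequiv : ∀ k : stabilizer G a, ∀ x, k • β x = β ((φ k).1 x) := by
    intro k x
    set y := (φ k).1 x with hy
    have h1 : ((φ.symm ⟨q y, hq y⟩)⁻¹ * k * φ.symm ⟨q x, hq x⟩) • b' = b' := by
      rw [hstab]
      simp only [map_mul, map_inv, MulEquiv.apply_symm_apply, Subgroup.coe_mul, InvMemClass.coe_inv,
        Equiv.Perm.mul_apply, hqo]
      rw [← hy]
      exact (q y).symm_apply_eq.2 (hqo y).symm
    rw [mul_smul, mul_smul, inv_smul_eq_iff] at h1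
    exact h1
  have hinj : Function.Injective β := by
    intro x y e
    have h1 : ((φ.symm ⟨q y, hq y⟩)⁻¹ * φ.symm ⟨q x, hq x⟩) • b' = b' := by
      rw [mul_smul, inv_smul_eq_iff]; exact e
    rw [hstab] at h1
    simp only [map_mul, map_inv, MulEquiv.apply_symm_apply, Subgroup.coe_mul, InvMemClass.coe_inv,
      Equiv.Perm.mul_apply, hqo] at h1
    have h2 : x = q y o := by
      rw [← h1]; exact ((q y).apply_symm_apply x).symm
    exact h2.trans (hqo y)
  have hA : ∀ x, Γ.Adj a (β x) := fun x => h.adj_base.2 (mem_orbit_of_mem_orbit _ (mem_orbit b _))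
  have hcover : ∀ x, Γ.Adj a x → ∃ i, x = β i := by
    have hs : Set.range β ⊆ orbit (stabilizer G a) b := by
      rintro _ ⟨x, rfl⟩
      exact h.adj_base.1 (hA x)
    have he : Set.range β = orbit (stabilizer G a) b := Set.eq_of_subset_of_ncard_le hs (by
      rw [h.hb, Set.ncard_range_of_injective hinj, Nat.card_fin]) (Set.toFinite _)
    intro x hx
    obtain ⟨i, hi⟩ := he.ge (h.adj_base.1 hx)
    exact ⟨i, hi.symm⟩
  have hsm : ∀ (k : stabilizer G a) {x y : Ω}, Γ.Adj (k • x) (k • y) ↔ Γ.Adj x y := fun k => h.smul_adj k.1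
  have hbase : ∀ x, Γ.Adj (β o) (β x) ↔ adjB 0 x.val = true := by
    set S := Finset.univ.filter fun x : Fin 112 => Γ.Adj (β o) (β x) with hS
    have hcard : S.card = 30 := by
      have e := card_common_eq Γ h.srg a (β o)
      rw [if_neg (hA o).ne, if_pos (hA o)] at e
      rw [← e]
      refine Finset.card_bij (fun x _ => β x) (fun x hx => ?_) (fun x _ y _ e => hinj e) fun z hz => ?_
      · simp only [hS, Finset.mem_filter, Finset.mem_univ, true_and] at hx ⊢
        exact ⟨hA x, hx⟩
      · simp only [Finset.mem_filter, Finset.mem_univ, true_and] at hz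
        obtain ⟨i, rfl⟩ := hcover z hz.1
        exact ⟨i, by simp [hS, hz.2], rfl⟩
    have hinv : ∀ (k : K) x, x ∈ S → k • x ∈ S := by
      intro k x hx
      simp only [hS, Finset.mem_filter, Finset.mem_univ, true_and] at hx ⊢
      have h1 := (hsm (φ.symm k.1)).2 hx
      rwa [hequiv, hequiv, MulEquiv.apply_symm_apply, show k.1.1 o = o from k.2] at h1
    have hnot : o ∉ S := by simp [hS]
    have hfar : ∀ x ∈ S, adjB 0 x.val = true := by
      intro x hx
      by_contra hx'
      rw [Bool.not_eq_true] at hx'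
      have hsub : (far : Set (Fin 112)) ⊆ (S : Set (Fin 112)) := by
        rw [← orbit_far (fun e => hnot (e ▸ hx)) hx']
        rintro _ ⟨k, rfl⟩
        exact hinv k x hx
      have := Finset.card_le_card (Finset.coe_subset.1 hsub)
      rw [near_card.2, hcard] at this
      omega
    have hSn : S = near := Finset.eq_of_subset_of_card_le
      (fun x hx => by simp [near, hfar x hx]) (by rw [hcard, near_card.1])
    intro x
    have := Finset.ext_iff.1 hSn x
    simpa [hS, near] using this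
  refine ⟨β, hinj, hA, hcover, fun i j => ?_, fun r hr => ?_, fun k hk => ?_⟩
  · set j' := (q i)⁻¹ j
    have ej : q i j' = j := (q i).apply_symm_apply j
    have h1 := hsm (φ.symm ⟨q i, hq i⟩) (x := β o) (y := β j')
    rw [hequiv, hequiv, MulEquiv.apply_symm_apply] at h1
    change Γ.Adj (β (q i o)) (β (q i j')) ↔ _ at h1
    rw [hqo, ej] at h1
    rw [h1, hbase, show (0 : ℕ) = o.val from rfl, ← (gA_aut (hq i)) o j', hqo, ej]
  · exact ⟨(φ.symm ⟨r, hr⟩).1, (φ.symm ⟨r, hr⟩).2, fun i => by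
      have := hequiv (φ.symm ⟨r, hr⟩) i
      rwa [MulEquiv.apply_symm_apply] at this⟩
  · exact ⟨(φ ⟨k, hk⟩).1, (φ ⟨k, hk⟩).2, fun i => hequiv ⟨k, hk⟩ i⟩

theorem recognition (hΩ : Fintype.card Ω = 275) (htr : IsPretransitive G Ω) (K' : Type) [Field K'] [Fintype K']
    (hK : Fintype.card K' = 9) (e : stabilizer G a ≃* Cfsg.PSU 4 K' 3)
    (hb : (orbit (stabilizer G a) b).ncard = 112) (hc : (orbit (stabilizer G a) c).ncard = 162) :
    Cfsg.Spor.IsoMcL G := by
  classical
  haveI := htr
  have h : Setup G a b c := ⟨hΩ, htr, hb, hc⟩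
  have hS := h.srg
  set Γ := orbGraph G a b with hΓ
  obtain ⟨eP⟩ := gA_equiv K' hK
  obtain ⟨β₀, hβ₀⟩ := exists_label h (e.trans eP.symm)
  have hca : c ≠ a := fun e => by
    have := h.hc
    rw [e, h.orbit_self, Set.ncard_singleton] at this
    omega
  have hcn : ¬ Γ.Adj a c := fun hadj => by
    have := orbit_eq_iff.2 (h.adj_base.1 hadj)
    have h1 := h.hc
    rw [this, h.hb] at h1
    omega
  let bit : (Fin 112 → Ω) → Ω → ℕ → Bool := fun β v i => if hi : i < 112 then decide (Γ.Adj v (β ⟨i, hi⟩)) else false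
  have htwo : ∀ l < 280, two4 (bit β₀ c) l := by
    intro l hl
    let p : Fin 4 → Fin 112 := fun t => ⟨linePt l t.val, linePt_lt hl t.isLt⟩
    have hp : ∀ s t : Fin 4, s ≠ t → adjB (p s).val (p t).val = true := by
      intro s t hst
      have h1 := List.all_eq_true.1 (List.all_eq_true.1 lines_ok l (List.mem_range.2 hl)) s.val
        (List.mem_range.2 s.isLt)
      simp only [Bool.and_eq_true, List.all_eq_true, List.mem_range, Bool.or_eq_true, beq_iff_eq] at h1
      exact (h1.2 t.val t.isLt).resolve_left fun e => hst (Fin.ext e)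
    have hpn : Function.Injective (fun t => β₀ (p t)) := fun s t e => by
      by_contra hst
      have := (hβ₀.adj _ _).2 (hp s t hst)
      exact this.ne e
    set C : Finset Ω := insert a (Finset.univ.image fun t => β₀ (p t)) with hCdef
    have hnot : a ∉ Finset.univ.image fun t => β₀ (p t) := by
      simp only [Finset.mem_image, Finset.mem_univ, true_and, not_exists]
      exact fun t e => (hβ₀.adjA (p t)).ne e.symm
    have hC : C.card = 5 := by
      rw [hCdef, Finset.card_insert_of_notMem hnot, Finset.card_image_of_injective _ hpn]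
      rfl
    have hcl : ∀ x ∈ C, ∀ y ∈ C, x ≠ y → Γ.Adj x y := by
      intro x hx y hy hxy
      simp only [hCdef, Finset.mem_insert, Finset.mem_image, Finset.mem_univ, true_and] at hx hy
      rcases hx with rfl | ⟨s, rfl⟩ <;> rcases hy with rfl | ⟨t, rfl⟩
      · exact absurd rfl hxy
      · exact hβ₀.adjA _
      · exact (hβ₀.adjA _).symm
      · exact (hβ₀.adj _ _).2 (hp s t fun e => hxy (e ▸ rfl))
    have hvC : c ∉ C := by
      simp only [hCdef, Finset.mem_insert, Finset.mem_image, Finset.mem_univ, true_and, not_or, not_exists]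
      exact ⟨hca, fun t e => hcn (e ▸ hβ₀.adjA (p t))⟩
    have h2 := two_of_five Γ hS C hC hcl c hvC
    rw [hCdef, Finset.filter_insert, if_neg hcn, Finset.filter_image, Finset.card_image_of_injective _ hpn,
      Finset.card_filter, Fin.sum_univ_four] at h2
    have hb4 : ∀ t : Fin 4, (bit β₀ c (linePt l t.val)).toNat = if Γ.Adj (β₀ (p t)) c then 1 else 0 := by
      intro t
      simp only [bit, dif_pos (linePt_lt hl t.isLt)]
      by_cases hh : Γ.Adj (β₀ (p t)) c
      · rw [if_pos hh, decide_eq_true hh.symm]; rfl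
      · rw [if_neg hh, decide_eq_false fun e => hh e.symm]; rfl
    show _ + _ + _ + _ = 2
    rw [show bit β₀ c (linePt l 0) = bit β₀ c (linePt l (0 : Fin 4).val) from rfl,
      show bit β₀ c (linePt l 1) = bit β₀ c (linePt l (1 : Fin 4).val) from rfl,
      show bit β₀ c (linePt l 2) = bit β₀ c (linePt l (2 : Fin 4).val) from rfl,
      show bit β₀ c (linePt l 3) = bit β₀ c (linePt l (3 : Fin 4).val) from rfl, hb4, hb4, hb4, hb4]
    exact h2
  obtain ⟨k, hk, j₀, hj₀, hrow⟩ := hemisystem htwo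
  obtain ⟨hv, hσ⟩ := perm_aut (g := sigTab k) (by
    rw [sigTab, List.getD_eq_getElem _ _ (by rw [sig_aut.2]; exact hk)]
    exact List.all_eq_true.1 sig_aut.1 _ (List.getElem_mem _))
  have hβ := hβ₀.twist hσ
  set β : Fin 112 → Ω := fun i => β₀ (perm 112 (sigTab k) i) with hβdef
  have hrow' : ∀ i, Γ.Adj c (β i) ↔ inS j₀ i.val = true := by
    intro i
    rw [← hrow i.val i.isLt]
    have e : (⟨ap (sigTab k).1 i.val, valid_lt hv i.isLt⟩ : Fin 112) = perm 112 (sigTab k) i :=
      Fin.ext (perm_apply hv i).symm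
    simp only [bit, dif_pos (valid_lt hv i.isLt), e, decide_eq_true_eq]
    rfl
  let Γ2 := {x : Ω // x ∈ orbit (stabilizer G a) c}
  have hrows : ∀ v : Γ2, ∃ j : Fin 162, ∀ i, Γ.Adj v.1 (β i) ↔ inS j.val i.val = true := by
    rintro ⟨v, ⟨g, rfl⟩⟩
    obtain ⟨q, hq, hqi⟩ := hβ.descend g.1 g.2
    obtain ⟨j', hj'⟩ := rows_closed hq ⟨j₀, hj₀⟩
    refine ⟨j', fun i => ?_⟩
    set i' := q⁻¹ i
    have ei : q i' = i := q.apply_symm_apply i
    have h1 := hj' i'
    rw [ei] at h1
    rw [h1, ← hrow' i', show Γ.Adj c (β i') ↔ Γ.Adj (g.1 • c) (g.1 • β i') from (h.smul_adj g.1).symm, hqi, ei]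
    rfl
  choose J hJ using hrows
  have hJsurj : Function.Surjective J := by
    intro j
    obtain ⟨q₁, hq₁, h₁⟩ := rows_reach j
    obtain ⟨q₀, hq₀, h₀⟩ := rows_reach ⟨j₀, hj₀⟩
    obtain ⟨g, hga, hgi⟩ := hβ.lift (q₁ * q₀⁻¹) (mul_mem hq₁ (inv_mem hq₀))
    let v : Γ2 := ⟨g • c, mem_orbit c (⟨g, hga⟩ : stabilizer G a)⟩
    refine ⟨v, row_unique fun i => ?_⟩
    set i' := q₁⁻¹ i with hi'
    have ei : q₁ i' = i := q₁.apply_symm_apply i
    have h2 := hJ v i
    have e : g • β (q₀ i') = β i := by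
      rw [hgi]; simp [Equiv.Perm.mul_apply, ei]
    rw [← e, show Γ.Adj v.1 (g • β (q₀ i')) ↔ Γ.Adj c (β (q₀ i')) from h.smul_adj g, hrow'] at h2
    rw [Bool.eq_iff_iff, ← h2, h₀, ← h₁, ei]
  have hJbij : Function.Bijective J := (Nat.bijective_iff_surjective_and_card J).2 ⟨hJsurj, by
    rw [Nat.card_fin, ← h.hc, ← Nat.card_coe_set_eq]⟩
  let J' := Equiv.ofBijective J hJbij
  let pt : Fin 162 → Ω := fun j => (J'.symm j).1
  have hpt : ∀ j i, Γ.Adj (pt j) (β i) ↔ inS j.val i.val = true := fun j i => by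
    have := hJ (J'.symm j) i
    rwa [show J (J'.symm j) = j from J'.apply_symm_apply j] at this
  have hpt_inj : Function.Injective pt := fun x y e => J'.symm.injective (Subtype.ext e)
  have hpt_a : ∀ j, ¬ Γ.Adj a (pt j) ∧ pt j ≠ a := by
    intro j
    refine ⟨fun hadj => ?_, fun e => ?_⟩
    · have := orbit_eq_iff.2 (h.adj_base.1 hadj)
      have h1 := h.hc
      rw [← orbit_eq_iff.2 (J'.symm j).2, show (J'.symm j).1 = pt j from rfl, this, h.hb] at h1
      omega
    · have h1 := h.hc
      rw [← orbit_eq_iff.2 (J'.symm j).2, show (J'.symm j).1 = pt j from rfl, e, h.orbit_self, Set.ncard_singleton] at h1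
      omega
  have hpp : ∀ j j', Γ.Adj (pt j) (pt j') ↔ inter j.val j'.val = 20 := by
    have hone : ∀ j j', Γ.Adj (pt j) (pt j') → inter j.val j'.val = 20 := by
      intro j j' hadj
      refine (inter_values fun e => hadj.ne (congrArg pt e)).resolve_right fun h32 => ?_
      have e := card_common_eq Γ hS (pt j) (pt j')
      rw [if_neg hadj.ne, if_pos hadj] at e
      have : inter j.val j'.val ≤ 30 := by
        rw [← e]
        refine Finset.card_le_card_of_injOn β (fun i hi => ?_) hβ.inj.injOn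
        simp only [Finset.coe_filter, Set.mem_ofPred_eq, Finset.mem_univ, true_and, Bool.and_eq_true] at hi ⊢
        exact ⟨(hpt j i).2 hi.1, (hpt j' i).2 hi.2⟩
      omega
    intro j j'
    refine ⟨hone j j', fun h20 => ?_⟩
    set S := Finset.univ.filter fun j' => Γ.Adj (pt j) (pt j') with hSdef
    suffices hEq : S = Finset.univ.filter fun j' : Fin 162 => inter j.val j'.val = 20 by
      have := Finset.ext_iff.1 hEq j'
      simpa [hSdef, h20] using this
    refine Finset.eq_of_subset_of_card_le (fun x hx => ?_) ?_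
    · simp only [hSdef, Finset.mem_filter, Finset.mem_univ, true_and] at hx ⊢
      exact hone j x hx
    rw [count20]
    have hsplit := Finset.card_filter_add_card_filter_not (s := Finset.univ.filter fun z => Γ.Adj (pt j) z)
      (fun z => Γ.Adj a z)
    have hd : (Finset.univ.filter fun z => Γ.Adj (pt j) z).card = 112 := by
      rw [← hS.regular (pt j), ← SimpleGraph.card_neighborFinset_eq_degree]
      congr 1
      ext z
      simp
    have hμ := card_common_eq Γ hS (pt j) a
    rw [if_neg (hpt_a j).2, if_neg fun e => (hpt_a j).1 e.symm] at hμ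
    rw [Finset.filter_filter, Finset.filter_filter, hd, hμ] at hsplit
    have hle : (Finset.univ.filter fun z => Γ.Adj (pt j) z ∧ ¬ Γ.Adj a z).card ≤ S.card := by
      refine Finset.card_le_card_of_surjOn pt fun z hz => ?_
      simp only [Finset.coe_filter, Set.mem_ofPred_eq, Finset.mem_univ, true_and] at hz
      rcases h.cases z with rfl | hzb | hzc
      · exact absurd hz.1.symm (hpt_a j).1
      · exact absurd (h.adj_base.2 hzb) hz.2
      · refine ⟨J' ⟨z, hzc⟩, ?_, by simp [pt]⟩
        simp [hSdef, pt, hz.1]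
    omega
  let ι : Fin 275 → Ω := fun x =>
    if cls x.val = 0 then a
    else if h1 : cls x.val - 1 < 112 then β ⟨cls x.val - 1, h1⟩
    else pt ⟨min (cls x.val - 113) 161, by omega⟩
  have ι0 : ι pt0 = a := if_pos cls_pt0
  have ιs : ∀ i, ι (subP i) = β i := fun i => by
    have hcl := cls_sub i
    simp only [ι]
    rw [if_neg (by omega), dif_pos (show cls (subP i).val - 1 < 112 by omega)]
    exact congrArg β (Fin.ext (show cls (subP i).val - 1 = i.val by omega))
  have ιn : ∀ j, ι (nbP j) = pt j := fun j => by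
    have hcl := cls_nb j
    simp only [ι]
    rw [if_neg (by omega), dif_neg (show ¬ cls (nbP j).val - 1 < 112 by omega)]
    exact congrArg pt (Fin.ext (show min (cls (nbP j).val - 113) 161 = j.val by omega))
  have ιinj : Function.Injective ι := by
    intro x y exy
    rcases three_kinds x with rfl | ⟨i, rfl⟩ | ⟨j, rfl⟩ <;> rcases three_kinds y with rfl | ⟨i', rfl⟩ | ⟨j', rfl⟩ <;>
      simp only [ι0, ιs, ιn] at exy
    · rfl
    · exact absurd exy (hβ.adjA i').ne
    · exact absurd exy.symm (hpt_a j').2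
    · exact absurd exy.symm (hβ.adjA i).ne
    · rw [hβ.inj exy]
    · exact absurd (exy ▸ hβ.adjA i) (hpt_a j').1
    · exact absurd exy (hpt_a j).2
    · exact absurd (exy.symm ▸ hβ.adjA i') (hpt_a j).1
    · rw [hpt_inj exy]
  have ιbij : Function.Bijective ι := (Fintype.bijective_iff_injective_and_card ι).2 ⟨ιinj, by simp [hΩ]⟩
  have ιadj : ∀ x y, Γ.Adj (ι x) (ι y) ↔ adjM x y := by
    intro x y
    rcases three_kinds x with rfl | ⟨i, rfl⟩ | ⟨j, rfl⟩ <;> rcases three_kinds y with rfl | ⟨i', rfl⟩ | ⟨j', rfl⟩ <;>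
      simp only [ι0, ιs, ιn]
    · exact iff_of_false (Γ.irrefl) (not_adj_self pt0)
    · exact iff_of_true (hβ.adjA i') (adj_pt0_sub i')
    · exact iff_of_false (hpt_a j').1 (not_adj_pt0_nb j')
    · exact iff_of_true (hβ.adjA i).symm (adjM_symm.1 (adj_pt0_sub i))
    · rw [hβ.adj, adj_sub]
    · rw [SimpleGraph.adj_comm, hpt, adjM_symm, adj_nb_sub]
    · exact iff_of_false (fun e => (hpt_a j).1 e.symm) (fun e => not_adj_pt0_nb j (adjM_symm.1 e))
    · rw [hpt, adj_nb_sub]
    · rw [hpp, adj_nb]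
  let E : Fin 275 ≃ Ω := Equiv.ofBijective ι ιbij
  let ρ : G →* Equiv.Perm (Fin 275) :=
    { toFun := fun g => E.trans ((MulAction.toPerm g).trans E.symm)
      map_one' := Equiv.ext fun x => by simp
      map_mul' := fun g k => Equiv.ext fun x => by simp [mul_smul] }
  have hρ : ∀ g x, ι (ρ g x) = g • ι x := fun g x => E.apply_symm_apply _
  have ρinj : Function.Injective ρ := fun g k e => by
    refine Subtype.ext (Equiv.ext fun z => ?_)
    obtain ⟨x, rfl⟩ := ιbij.2 z
    show g • ι x = k • ι x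
    rw [← hρ, ← hρ, e]
  have hG : Nat.card G = 898128000 := by
    rw [← Subgroup.card_mul_index (stabilizer G a), index_stabilizer_of_transitive, Nat.card_eq_fintype_card (α := Ω),
      hΩ, Nat.card_congr (e.trans eP.symm).toEquiv, card_gA]
  have hT := model_eq ρ.range (by
      rintro _ ⟨g, rfl⟩ x y
      rw [← ιadj, ← ιadj, hρ, hρ]
      exact h.smul_adj g) (by rw [← Nat.card_congr (MonoidHom.ofInjective ρinj).toEquiv, hG]) (fun x => by
      obtain ⟨g, hg⟩ := exists_smul_eq G a (ι x)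
      exact ⟨ρ g, ⟨g, rfl⟩, ιinj (by rw [hρ, ι0, hg])⟩) (by
      rintro _ ⟨g, rfl⟩ h0
      have hga : g • a = a := by rw [← ι0, ← hρ, h0]
      obtain ⟨q, hq, hqi⟩ := hβ.descend g hga
      exact ⟨q, hq, fun i => ιinj (by rw [hρ, ιs, ιs, hqi])⟩)
  obtain ⟨em⟩ := Cfsg.Lib.McLModel.exists_equiv
  exact ⟨((MonoidHom.ofInjective ρinj).trans (MulEquiv.subgroupCongr hT)).trans em.symm⟩

end Cfsg.Lib.McLModel.RankThree
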